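/-
An element `β` of order three of `Ω⁺₈(2)` moving an anisotropic plane and fixing its orthogonal, a
six-dimensional space of minus type (helper18).

* `β`, `emb`, `prj` : the element, the inclusion of the six-dimensional space and the projection
* `ext` : extension of an isometry of the six-dimensional space; `ext_mem_iff`
* `exists_conj_β` : an element moving such a plane is conjugate to `β`
-/
import Cfsg.Agent.Lib.CoFive.Bits
import Cfsg.Agent.Lib.SuzType.Coord
import Cfsg.Agent.Lib.CoType.Coord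

set_option autoImplicit false

namespace Cfsg.Agent.CoThree

open Cfsg.Agent.CoType Cfsg.Agent.Orth
open Cfsg.Agent.CoFive (b2 toN toN_lt ofN_toN ofN_xor ofN_inj qN pN rfN prN prd ap_prd ap_rfN qm_ofN polar_ofN)
open QuadraticMap (polar)

/-- The six-dimensional space. -/
abbrev V6 : Type := SuzType.V6
/-- Its form. -/
noncomputable abbrev q6 : QuadraticForm (ZMod 2) V6 := SuzType.qm

/-- The first vector of the plane. -/
def pa : V8 := CoFive.ofN 192
/-- The second vector of the plane. -/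
def pb : V8 := CoFive.ofN 112

/-- The element of order three. -/
noncomputable def β : IsoGrp qm := prd [192, 112]

theorem qN_pab : ∀ d ∈ [192, 112], qN d = true := by decide

theorem ap_β (n : ℕ) : ap β (CoFive.ofN n) = CoFive.ofN (prN [192, 112] n) := ap_prd qN_pab n

/-- Two numbers give one vector only if they agree. -/
theorem eq_of_all {g h : IsoGrp qm} (H : ∀ n < 256, ap g (CoFive.ofN n) = ap h (CoFive.ofN n)) :
    g = h :=
  ext_ap fun x => by
    have := H (toN x) (toN_lt x)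
    rwa [ofN_toN] at this

theorem b2_one : ∀ b : Bool, b2 b = 1 → b = true := by decide
theorem b2_zero : ∀ b : Bool, b2 b = 0 → b = false := by decide

theorem qm_ne {d : ℕ} (hd : qN d = true) : qm (CoFive.ofN d) ≠ 0 := by
  rw [qm_ofN, hd]; exact one_ne_zero

theorem β_mem : β ∈ Cfsg.Omega (ZMod 2) ⇑qm := by
  have := CoType.refl_mul_refl_mem (qm_ne (show qN 192 = true by decide))
    (qm_ne (show qN 112 = true by decide))
  simpa [β, prd] using this

theorem β_tab : ∀ n < 256, prN [192, 112] (prN [192, 112] (prN [192, 112] n)) = n := by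
  decide +kernel

theorem β_cube : β ^ 3 = 1 :=
  eq_of_all fun n hn => by
    simp only [pow_succ, pow_zero, one_mul, ap_mul, ap_β, β_tab n hn, ap_one]

theorem β_pa : ap β pa = pb := by
  rw [pa, ap_β, show prN [192, 112] 192 = 112 by decide]; rfl

theorem β_pb : ap β pb = pa + pb := by
  rw [pa, pb, ap_β, ← ofN_xor, show prN [192, 112] 112 = 192 ^^^ 112 by decide]

theorem qm_pa : qm pa = 1 := by rw [pa, qm_ofN, show qN 192 = true by decide]; rfl
theorem qm_pb : qm pb = 1 := by rw [pb, qm_ofN, show qN 112 = true by decide]; rfl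
theorem polar_pab : polar ⇑qm pa pb = 1 := by
  rw [pa, pb, polar_ofN, show pN 192 112 = true by decide]; rfl

theorem fix_tab : ∀ n < 256, pN n 192 = false → pN n 112 = false → prN [192, 112] n = n := by
  decide +kernel

theorem β_fix {x : V8} (ha : polar ⇑qm x pa = 0) (hb : polar ⇑qm x pb = 0) : ap β x = x := by
  obtain ⟨n, hn, rfl⟩ : ∃ n < 256, CoFive.ofN n = x := ⟨toN x, toN_lt x, ofN_toN x⟩
  rw [pa, polar_ofN] at ha
  rw [pb, polar_ofN] at hb
  rw [ap_β, fix_tab n hn (b2_zero _ ha) (b2_zero _ hb)]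

theorem split_tab : ∀ n < 256, ∃ w ∈ [0, 192, 112, 176],
    pN (n ^^^ w) 192 = false ∧ pN (n ^^^ w) 112 = false := by decide +kernel

/-- An isometry is determined on the plane and its orthogonal. -/
theorem eq_β {g : IsoGrp qm} (ha : ap g pa = pb) (hb : ap g pb = pa + pb)
    (hfix : ∀ x : V8, polar ⇑qm x pa = 0 → polar ⇑qm x pb = 0 → ap g x = x) : g = β := by
  refine eq_of_all fun n hn => ?_
  obtain ⟨w, hw, h1, h2⟩ := split_tab n hn
  have hu := hfix (CoFive.ofN (n ^^^ w)) (by rw [pa, polar_ofN, h1]; rfl)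
    (by rw [pb, polar_ofN, h2]; rfl)
  have hu' := β_fix (x := CoFive.ofN (n ^^^ w)) (by rw [pa, polar_ofN, h1]; rfl)
    (by rw [pb, polar_ofN, h2]; rfl)
  have hwe : ap g (CoFive.ofN w) = ap β (CoFive.ofN w) := by
    have h176 : CoFive.ofN 176 = pa + pb := by rw [pa, pb, ← ofN_xor]; rfl
    simp only [List.mem_cons, List.not_mem_nil, or_false] at hw
    rcases hw with rfl | rfl | rfl | rfl
    · simp [CoFive.ofN_zero]
    · exact ha.trans β_pa.symm
    · exact hb.trans β_pb.symm
    · rw [h176, map_add, map_add, ha, hb, β_pa, β_pb]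
  have hn' : CoFive.ofN n = CoFive.ofN (n ^^^ w) + CoFive.ofN w := by
    rw [← ofN_xor, Nat.xor_xor_cancel_right]
  rw [hn', map_add, map_add, hu, hu', hwe]

/-! ### The six-dimensional space -/

/-- The inclusion. -/
def emb : V6 →ₗ[ZMod 2] V8 where
  toFun y := Sum.elim
    ![y (.inl (.inl 0)), y (.inl (.inl 1)), y (.inr 0) + y (.inr 1), y (.inr 1)]
    ![y (.inl (.inr 0)), y (.inl (.inr 1)), y (.inr 0), y (.inr 1)]
  map_add' a b := by
    funext j
    rcases j with i | i <;> fin_cases i <;> simp [add_add_add_comm]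
  map_smul' c a := by
    funext j
    rcases j with i | i <;> fin_cases i <;> simp [mul_add]

/-- The projection. -/
def prj : V8 →ₗ[ZMod 2] V6 where
  toFun x := Sum.elim (Sum.elim ![x (.inl 0), x (.inl 1)] ![x (.inr 0), x (.inr 1)])
    ![x (.inr 2) + x (.inl 3) + x (.inr 3), x (.inl 2) + x (.inr 2)]
  map_add' a b := by
    funext j
    rcases j with (i | i) | i <;> fin_cases i <;> simp <;> ring
  map_smul' c a := by
    funext j
    rcases j with (i | i) | i <;> fin_cases i <;> simp [mul_add]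

theorem prj_emb (y : V6) : prj (emb y) = y := by
  have h : ∀ a b : ZMod 2, a + b + b = a ∧ a + b + a = b := by decide
  funext j
  rcases j with (i | i) | i <;> fin_cases i <;>
    simp [prj, emb, (h (y (.inr 0)) (y (.inr 1))).1, (h (y (.inr 0)) (y (.inr 1))).2]

theorem qm_emb (y : V6) : qm (emb y) = q6 y := by
  rw [CoType.qm_apply, SuzType.qm_apply]
  simp [emb]
  ring

theorem polar_emb (x : V8) (y : V6) : polar ⇑qm x (emb y) = polar ⇑q6 (prj x) y := by
  simp only [polar, CoType.qm_apply, SuzType.qm_apply]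
  simp [emb, prj]
  ring_nf
  have h2 : (2 : ZMod 2) = 0 := rfl
  have h3 : (3 : ZMod 2) = 1 := rfl
  simp [h2, h3]

theorem polar_emb_emb (x y : V6) : polar ⇑qm (emb x) (emb y) = polar ⇑q6 x y := by
  rw [polar_emb, prj_emb]

theorem prj_pa : prj pa = 0 := by
  funext j
  rcases j with (i | i) | i <;> fin_cases i <;> decide +kernel

theorem prj_pb : prj pb = 0 := by
  funext j
  rcases j with (i | i) | i <;> fin_cases i <;> decide +kernel

theorem emb_perp_pa (y : V6) : polar ⇑qm (emb y) pa = 0 := by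
  rw [pl_comm, polar_emb, prj_pa, pl_zero_left]

theorem emb_perp_pb (y : V6) : polar ⇑qm (emb y) pb = 0 := by
  rw [pl_comm, polar_emb, prj_pb, pl_zero_left]

theorem β_emb (y : V6) : ap β (emb y) = emb y := β_fix (emb_perp_pa y) (emb_perp_pb y)

theorem comp_tab : ∀ n < 256, ∃ w ∈ [0, 192, 112, 176], emb (prj (CoFive.ofN n)) = CoFive.ofN (n ^^^ w) := by
  decide +kernel

/-- The two components. -/
theorem exists_comp (x : V8) : ∃ a b : ZMod 2, x = a • pa + b • pb + emb (prj x) := by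
  obtain ⟨n, hn, rfl⟩ : ∃ n < 256, CoFive.ofN n = x := ⟨toN x, toN_lt x, ofN_toN x⟩
  obtain ⟨w, hw, he⟩ := comp_tab n hn
  rw [he, ofN_xor]
  have key : ∀ (u v : V8), u = v + (u + v) := fun u v => by
    rw [add_comm u v, ← add_assoc, ZModModule.add_self, zero_add]
  simp only [List.mem_cons, List.not_mem_nil, or_false] at hw
  rcases hw with rfl | rfl | rfl | rfl
  · exact ⟨0, 0, by simp [CoFive.ofN_zero]⟩
  · exact ⟨1, 0, by rw [one_smul, zero_smul, add_zero, pa]; exact key _ _⟩
  · exact ⟨0, 1, by rw [one_smul, zero_smul, zero_add, pb]; exact key _ _⟩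
  · exact ⟨1, 1, by
      rw [one_smul, one_smul, pa, pb, ← ofN_xor 192 112, show 192 ^^^ 112 = 176 from rfl]
      exact key _ _⟩

theorem eq_emb_of_perp {x : V8} (ha : polar ⇑qm x pa = 0) (hb : polar ⇑qm x pb = 0) :
    emb (prj x) = x := by
  obtain ⟨a, b, h⟩ := exists_comp x
  have e1 : polar ⇑qm pa pa = 0 := by rw [pl_self, show (2 : ZMod 2) = 0 from rfl, zero_mul]
  have e2 : polar ⇑qm pb pb = 0 := by rw [pl_self, show (2 : ZMod 2) = 0 from rfl, zero_mul]
  have ha' := ha
  have hb' := hb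
  rw [h, pl_add_left, pl_add_left, pl_smul_left, pl_smul_left, e1, emb_perp_pa, pl_comm qm pb pa,
    polar_pab] at ha'
  rw [h, pl_add_left, pl_add_left, pl_smul_left, pl_smul_left, e2, emb_perp_pb, polar_pab] at hb'
  have ha0 : b = 0 := by simpa using ha'
  have hb0 : a = 0 := by simpa using hb'
  rw [hb0, ha0, zero_smul, zero_smul, zero_add, zero_add] at h
  exact h.symm

theorem emb_prj_of_fix {x : V8} (h : ap β x = x) : emb (prj x) = x := by
  refine eq_emb_of_perp ?_ ?_
  · have h1 := polar_ap β x pa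
    have h2 := polar_ap β x pb
    rw [h, β_pa] at h1
    rw [h, β_pb, pl_add_right] at h2
    exact add_eq_right.1 h2
  · have h1 := polar_ap β x pa
    have h2 := polar_ap β x pb
    rw [h, β_pa] at h1
    rw [h, β_pb, pl_add_right] at h2
    rw [h1]; exact add_eq_right.1 h2

/-! ### Extension of isometries -/

/-- The extension as a linear map. -/
noncomputable def extLin (η : IsoGrp q6) : V8 →ₗ[ZMod 2] V8 :=
  LinearMap.id + emb ∘ₗ (ap η + LinearMap.id) ∘ₗ prj

theorem extLin_apply (η : IsoGrp q6) (x : V8) : extLin η x = x + emb (ap η (prj x) + prj x) := rfl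

theorem prj_extLin (η : IsoGrp q6) (x : V8) : prj (extLin η x) = ap η (prj x) := by
  rw [extLin_apply, map_add, prj_emb, add_comm, add_assoc, ZModModule.add_self, add_zero]

theorem extLin_mul (η θ : IsoGrp q6) (x : V8) : extLin (η * θ) x = extLin η (extLin θ x) := by
  rw [extLin_apply η (extLin θ x), prj_extLin, extLin_apply, extLin_apply, ap_mul, map_add, map_add, map_add]
  calc x + (emb (ap η (ap θ (prj x))) + emb (prj x))
      = x + emb (prj x) + emb (ap η (ap θ (prj x))) + (emb (ap θ (prj x)) + emb (ap θ (prj x))) := by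
        rw [ZModModule.add_self, add_zero]; abel
    _ = _ := by abel

theorem extLin_one (x : V8) : extLin (1 : IsoGrp q6) x = x := by
  rw [extLin_apply, ap_one, ZModModule.add_self, map_zero, add_zero]

theorem qm_extLin (η : IsoGrp q6) (x : V8) : qm (extLin η x) = qm x := by
  rw [extLin_apply, Q_add, qm_emb, polar_emb, Q_add, Q_ap, pl_add_right, pl_comm q6 (ap η (prj x)),
    pl_self, show (2 : ZMod 2) = 0 from rfl, zero_mul, add_zero]
  have h : ∀ a b c : ZMod 2, a + (b + b + c) + c = a := by decide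
  exact h _ _ _

theorem ext_mul_toMatrix (η θ : IsoGrp q6) :
    LinearMap.toMatrix' (extLin η) * LinearMap.toMatrix' (extLin θ) =
      LinearMap.toMatrix' (extLin (η * θ)) := by
  rw [← LinearMap.toMatrix'_comp]
  exact congrArg _ (LinearMap.ext fun x => (extLin_mul η θ x).symm)

theorem toMatrix_one : LinearMap.toMatrix' (extLin (1 : IsoGrp q6)) = 1 := by
  rw [show extLin (1 : IsoGrp q6) = LinearMap.id from LinearMap.ext extLin_one, LinearMap.toMatrix'_id]

/-- The extension of an isometry of the six-dimensional space, trivial on the plane. -/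
noncomputable def extFun (η : IsoGrp q6) : IsoGrp qm :=
  ⟨⟨LinearMap.toMatrix' (extLin η), LinearMap.toMatrix' (extLin η⁻¹),
    by rw [ext_mul_toMatrix, mul_inv_cancel, toMatrix_one],
    by rw [ext_mul_toMatrix, inv_mul_cancel, toMatrix_one]⟩, fun x _ => by
    show qm (Matrix.mulVec (LinearMap.toMatrix' (extLin η)) x) = qm x
    rw [LinearMap.toMatrix'_mulVec]; exact qm_extLin η x⟩

theorem ap_extFun (η : IsoGrp q6) (x : V8) : ap (extFun η) x = extLin η x :=
  LinearMap.toMatrix'_mulVec (extLin η) x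

/-- The extension. -/
noncomputable def ext : IsoGrp q6 →* IsoGrp qm where
  toFun := extFun
  map_one' := ext_ap fun x => by rw [ap_extFun, extLin_one, ap_one]
  map_mul' η θ := ext_ap fun x => by rw [ap_mul, ap_extFun, ap_extFun, ap_extFun, extLin_mul]

theorem ap_ext (η : IsoGrp q6) (x : V8) : ap (ext η) x = x + emb (ap η (prj x) + prj x) :=
  ap_extFun η x

theorem ap_ext_emb (η : IsoGrp q6) (y : V6) : ap (ext η) (emb y) = emb (ap η y) := by
  rw [ap_ext, prj_emb, map_add, add_comm (emb (ap η y)), ← add_assoc, ZModModule.add_self, zero_add]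

theorem ap_ext_pa (η : IsoGrp q6) : ap (ext η) pa = pa := by
  rw [ap_ext, prj_pa, map_zero, add_zero, map_zero, add_zero]

theorem ap_ext_pb (η : IsoGrp q6) : ap (ext η) pb = pb := by
  rw [ap_ext, prj_pb, map_zero, add_zero, map_zero, add_zero]

theorem ext_comm_β (η : IsoGrp q6) : ext η * β = β * ext η := by
  refine ext_ap fun x => ?_
  obtain ⟨a, b, h⟩ := exists_comp x
  rw [h]
  simp only [map_add, map_smul, ap_mul, β_pa, β_pb, ap_ext_pa, ap_ext_pb, β_emb, ap_ext_emb]

theorem ext_refl (y : V6) (hy : q6 y ≠ 0) : ext (refl q6 y) = refl qm (emb y) := by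
  refine ext_ap fun x => ?_
  have h2 : ∀ t : ZMod 2, t ≠ 0 → t = 1 := by decide
  rw [ap_ext, refl_ap, refl_ap, qm_emb, h2 _ hy, inv_one, one_mul, one_mul, pl_comm qm (emb y) x,
    polar_emb, pl_comm q6 (prj x) y]
  rw [sub_eq_add_neg, sub_eq_add_neg, ZModModule.neg_eq_self, ZModModule.neg_eq_self, add_comm (prj x),
    add_assoc, ZModModule.add_self, add_zero, map_smul]

theorem map_omega_le : (Cfsg.Omega (ZMod 2) ⇑q6).map ext ≤ Cfsg.Omega (ZMod 2) ⇑qm := by
  show (commutator _).map ext ≤ commutator _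
  rw [commutator_def, commutator_def, Subgroup.map_commutator]
  exact Subgroup.commutator_mono le_top le_top

theorem ext_mem_iff (η : IsoGrp q6) :
    ext η ∈ Cfsg.Omega (ZMod 2) ⇑qm ↔ η ∈ Cfsg.Omega (ZMod 2) ⇑q6 := by
  refine ⟨fun h => ?_, fun h => map_omega_le ⟨η, h, rfl⟩⟩
  by_contra hη
  let y : V6 := SuzType.io ![0, 0, 1, 0]
  have hy : q6 y ≠ 0 := by rw [SuzType.qm_io]; decide
  have h1 : η * refl q6 y ∈ Cfsg.Omega (ZMod 2) ⇑q6 :=
    (Subgroup.mul_mem_iff_of_index_two SuzType.index_omega).2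
      (iff_of_false hη (SuzType.refl_not_mem hy))
  have h2 := map_omega_le ⟨_, h1, rfl⟩
  rw [map_mul, Subgroup.mul_mem_cancel_left _ h, ext_refl y hy] at h2
  exact CoType.refl_not_mem (by rw [qm_emb]; exact hy) h2

/-! ### Transitivity -/

theorem move_pa_tab : ∀ n < 256, qN n = true → ∃ d₂ < 256, qN d₂ = true ∧
    pN (rfN d₂ n) 192 = true := by
  decide +kernel

theorem move_pb_tab : ∀ n < 256, qN n = true → pN n 192 = true → ∃ d₂ < 256,
    qN d₂ = true ∧ pN d₂ 192 = false ∧ pN (rfN d₂ n) 112 = true := by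
  decide +kernel

theorem qm_one_of {x y : V8} (hx : qm x = 1) (hy : qm y = 1) (hxy : polar ⇑qm x y = 1) :
    qm (x + y) = 1 := by
  rw [Q_add, hx, hy, hxy]; decide

theorem refl_swap {x y : V8} (hx : qm x = 1) (hy : qm y = 1) (hxy : polar ⇑qm x y = 1) :
    ap (refl qm (x + y)) x = y := by
  rw [refl_ap, qm_one_of hx hy hxy, inv_one, one_mul, pl_add_left, pl_self,
    show (2 : ZMod 2) = 0 from rfl, zero_mul, zero_add, pl_comm qm y x, hxy, one_smul,
    sub_eq_add_neg, ZModModule.neg_eq_self, ← add_assoc, ZModModule.add_self, zero_add]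

theorem exists_omega_pa {x : V8} (hx : qm x = 1) :
    ∃ ω ∈ Cfsg.Omega (ZMod 2) ⇑qm, ap ω x = pa := by
  obtain ⟨n, hn, rfl⟩ : ∃ n < 256, CoFive.ofN n = x := ⟨toN x, toN_lt x, ofN_toN x⟩
  rw [qm_ofN] at hx
  obtain ⟨d, -, hd, hp⟩ := move_pa_tab n hn (b2_one _ hx)
  set m := ap (refl qm (CoFive.ofN d)) (CoFive.ofN n) with hm
  have hm1 : qm m = 1 := by rw [hm, Q_ap, qm_ofN]; exact hx
  have hm2 : polar ⇑qm m pa = 1 := by rw [hm, ap_rfN hd, pa, polar_ofN, hp]; rfl
  refine ⟨refl qm (m + pa) * refl qm (CoFive.ofN d), CoType.refl_mul_refl_mem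
    (by rw [qm_one_of hm1 qm_pa hm2]; exact one_ne_zero) (qm_ne hd), ?_⟩
  rw [ap_mul, ← hm, refl_swap hm1 qm_pa hm2]

theorem exists_omega_pb {x : V8} (hx : qm x = 1) (hxa : polar ⇑qm x pa = 1) :
    ∃ ω ∈ Cfsg.Omega (ZMod 2) ⇑qm, ap ω x = pb ∧ ap ω pa = pa := by
  obtain ⟨n, hn, rfl⟩ : ∃ n < 256, CoFive.ofN n = x := ⟨toN x, toN_lt x, ofN_toN x⟩
  rw [qm_ofN] at hx
  rw [pa, polar_ofN] at hxa
  obtain ⟨d, -, hd, hd0, hp⟩ := move_pb_tab n hn (b2_one _ hx) (b2_one _ hxa)
  set m := ap (refl qm (CoFive.ofN d)) (CoFive.ofN n) with hm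
  have hfix : ap (refl qm (CoFive.ofN d)) pa = pa :=
    refl_ap_of_orth qm (by rw [pa, polar_ofN, hd0]; rfl)
  have hm1 : qm m = 1 := by rw [hm, Q_ap, qm_ofN]; exact hx
  have hm2 : polar ⇑qm m pb = 1 := by rw [hm, ap_rfN hd, pb, polar_ofN, hp]; rfl
  have hm3 : polar ⇑qm m pa = 1 := by
    rw [hm, ← hfix, polar_ap, pa, polar_ofN]; exact hxa
  refine ⟨refl qm (m + pb) * refl qm (CoFive.ofN d), CoType.refl_mul_refl_mem
    (by rw [qm_one_of hm1 qm_pb hm2]; exact one_ne_zero) (qm_ne hd), ?_, ?_⟩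
  · rw [ap_mul, ← hm, refl_swap hm1 qm_pb hm2]
  · rw [ap_mul, hfix]
    refine refl_ap_of_orth qm ?_
    rw [pl_add_left, hm3, pl_comm qm pb pa, polar_pab]
    decide

/-- An element turning an anisotropic plane and fixing its orthogonal is conjugate to `β`. -/
theorem exists_conj_β {g : IsoGrp qm} {a : V8} (ha : qm a = 1)
    (hab : polar ⇑qm a (ap g a) = 1) (h3 : ap g (ap g a) = a + ap g a)
    (hfix : ∀ x : V8, polar ⇑qm x a = 0 → polar ⇑qm x (ap g a) = 0 → ap g x = x) :
    ∃ ω ∈ Cfsg.Omega (ZMod 2) ⇑qm, ω * g * ω⁻¹ = β := by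
  obtain ⟨ω₁, h1, e1⟩ := exists_omega_pa ha
  obtain ⟨ω₂, h2, e2, e2a⟩ := exists_omega_pb (x := ap ω₁ (ap g a)) (by rw [Q_ap, Q_ap, ha])
    (by rw [← e1, polar_ap, pl_comm]; exact hab)
  refine ⟨ω₂ * ω₁, mul_mem h2 h1, ?_⟩
  have ea : ap (ω₂ * ω₁) a = pa := by rw [ap_mul, e1, e2a]
  have eb : ap (ω₂ * ω₁) (ap g a) = pb := by rw [ap_mul, e2]
  refine eq_β ?_ ?_ fun x hxa hxb => ?_
  · conv_lhs => rw [← ea]
    rw [ap_mul, ap_mul, ap_inv_ap]
    exact eb
  · conv_lhs => rw [← eb]
    rw [ap_mul, ap_mul, ap_inv_ap, h3, map_add, ea, eb]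
  · rw [ap_mul, ap_mul, hfix _ ?_ ?_, ap_ap_inv]
    · rw [← polar_ap (ω₂ * ω₁), ap_ap_inv, ea]; exact hxa
    · rw [← polar_ap (ω₂ * ω₁), ap_ap_inv, eb]; exact hxb

end Cfsg.Agent.CoThree
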