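/-
The centraliser of `β` and the restriction to the six-dimensional space (helper18).

* `Cβ`, `res` : the centraliser in `Ω`, its map onto `Ω⁻₆(2)`
* `exists_eq` : an element of `Cβ` is a power of `β` times the extension of its restriction
-/
import Cfsg.Agent.Lib.CoThree.Plane

set_option autoImplicit false
open scoped commutatorElement

namespace Cfsg.Agent.CoThree

open Cfsg.Agent.CoType Cfsg.Agent.Orth
open QuadraticMap (polar)

/-- The centraliser of `β` in `Ω`. -/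
noncomputable def Cβ : Subgroup (IsoGrp qm) :=
  Cfsg.Omega (ZMod 2) ⇑qm ⊓ Subgroup.centralizer {β}

theorem mem_Cβ {ω : IsoGrp qm} :
    ω ∈ Cβ ↔ ω ∈ Cfsg.Omega (ZMod 2) ⇑qm ∧ ω * β = β * ω := by
  rw [Cβ, Subgroup.mem_inf, Subgroup.mem_centralizer_singleton_iff]

theorem fix_of_comm {ω : IsoGrp qm} (h : ω * β = β * ω) (y : V6) :
    ap β (ap ω (emb y)) = ap ω (emb y) := by
  rw [← ap_mul, ← h, ap_mul, β_emb]

theorem ap_emb (ω : Cβ) (y : V6) :
    emb (prj (ap (ω : IsoGrp qm) (emb y))) = ap (ω : IsoGrp qm) (emb y) :=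
  emb_prj_of_fix (fix_of_comm (mem_Cβ.1 ω.2).2 y)

/-- The restriction as a linear map. -/
noncomputable def resLin (ω : IsoGrp qm) : V6 →ₗ[ZMod 2] V6 := prj ∘ₗ ap ω ∘ₗ emb

theorem resLin_apply (ω : IsoGrp qm) (y : V6) : resLin ω y = prj (ap ω (emb y)) := rfl

theorem resLin_mul (ω υ : Cβ) (y : V6) :
    resLin (ω * υ : Cβ) y = resLin ω (resLin υ y) := by
  rw [resLin_apply, resLin_apply, resLin_apply, ap_emb, Subgroup.coe_mul, ap_mul]

theorem resLin_one (y : V6) : resLin ((1 : Cβ) : IsoGrp qm) y = y := by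
  rw [resLin_apply, Subgroup.coe_one, ap_one, prj_emb]

theorem qm_resLin (ω : Cβ) (y : V6) : q6 (resLin ω y) = q6 y := by
  rw [resLin_apply, ← qm_emb, ap_emb, Q_ap, qm_emb]

theorem toMatrix_res_mul (ω υ : Cβ) :
    LinearMap.toMatrix' (resLin ω) * LinearMap.toMatrix' (resLin υ) =
      LinearMap.toMatrix' (resLin (ω * υ : Cβ)) := by
  rw [← LinearMap.toMatrix'_comp]
  exact congrArg _ (LinearMap.ext fun x => (resLin_mul ω υ x).symm)

theorem toMatrix_res_one : LinearMap.toMatrix' (resLin ((1 : Cβ) : IsoGrp qm)) = 1 := by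
  rw [show resLin ((1 : Cβ) : IsoGrp qm) = LinearMap.id from LinearMap.ext resLin_one,
    LinearMap.toMatrix'_id]

/-- The restriction as an isometry. -/
noncomputable def resFun (ω : Cβ) : IsoGrp q6 :=
  ⟨⟨LinearMap.toMatrix' (resLin ω), LinearMap.toMatrix' (resLin (ω⁻¹ : Cβ)),
    by rw [toMatrix_res_mul, mul_inv_cancel, toMatrix_res_one],
    by rw [toMatrix_res_mul, inv_mul_cancel, toMatrix_res_one]⟩, fun x _ => by
    show q6 (Matrix.mulVec (LinearMap.toMatrix' (resLin ω)) x) = q6 x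
    rw [LinearMap.toMatrix'_mulVec]; exact qm_resLin ω x⟩

theorem ap_resFun (ω : Cβ) (y : V6) : ap (resFun ω) y = prj (ap (ω : IsoGrp qm) (emb y)) :=
  LinearMap.toMatrix'_mulVec (resLin (ω : IsoGrp qm)) y

/-- The restriction. -/
noncomputable def res₀ : Cβ →* IsoGrp q6 where
  toFun := resFun
  map_one' := ext_ap fun x => by rw [ap_resFun, ap_one, Subgroup.coe_one, ap_one, prj_emb]
  map_mul' ω υ := ext_ap fun x => by
    rw [ap_mul, ap_resFun, ap_resFun, ap_resFun, ap_emb, Subgroup.coe_mul, ap_mul]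

theorem emb_res₀ (ω : Cβ) (y : V6) : emb (ap (res₀ ω) y) = ap (ω : IsoGrp qm) (emb y) :=
  (congrArg emb (ap_resFun ω y)).trans (ap_emb ω y)

theorem β_mem_Cβ : β ∈ Cβ := mem_Cβ.2 ⟨β_mem, rfl⟩

theorem pow_β_pa : ∀ x : V8, x = pa ∨ x = pb ∨ x = pa + pb → ∃ k : ℕ, ap (β ^ k) pa = x := by
  rintro x (rfl | rfl | rfl)
  · exact ⟨0, by rw [pow_zero, ap_one]⟩
  · exact ⟨1, by rw [pow_one, β_pa]⟩
  · exact ⟨2, by rw [pow_two, ap_mul, β_pa, β_pb]⟩

theorem exists_eq (ω : Cβ) : ∃ k : ℕ, (ω : IsoGrp qm) = β ^ k * ext (res₀ ω) := by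
  obtain ⟨w, hw⟩ := ω
  obtain ⟨hΩ, hc⟩ := mem_Cβ.1 hw
  obtain ⟨k, hk⟩ : ∃ k : ℕ, ap (β ^ k) pa = ap w pa := by
    refine pow_β_pa _ ?_
    have hp : prj (ap w pa) = 0 := SuzType.nd_qm.1 _ fun y => by
      show polar ⇑q6 (prj (ap w pa)) y = 0
      rw [← polar_emb]
      have h1 := ap_emb (⟨w, hw⟩ : Cβ)⁻¹ y
      simp only [Subgroup.coe_inv] at h1
      rw [show emb y = ap w (ap w⁻¹ (emb y)) by rw [ap_ap_inv], polar_ap, ← h1, pl_comm, emb_perp_pa]
    obtain ⟨a, b, h⟩ := exists_comp (ap w pa)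
    rw [hp, map_zero, add_zero] at h
    have h1 : qm (ap w pa) = 1 := by rw [Q_ap, qm_pa]
    rw [h] at h1 ⊢
    have two : ∀ t : ZMod 2, t = 0 ∨ t = 1 := by decide
    rcases two a with rfl | rfl <;> rcases two b with rfl | rfl <;> simp at h1 ⊢
  refine ⟨k, ext_ap fun x => ?_⟩
  have hcb : Commute w (β ^ k) := Commute.pow_right hc k
  have hb : ap w pb = ap (β ^ k) pb := by
    rw [← β_pa, ← ap_mul, ← ap_mul, hc, ap_mul, ← hk, ← ap_mul, ← pow_succ', pow_succ]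
  obtain ⟨a, b, h⟩ := exists_comp x
  have hfix : ∀ (n : ℕ) (y : V6), ap (β ^ n) (emb y) = emb y := by
    intro n y
    induction n with
    | zero => rw [pow_zero, ap_one]
    | succ n ih => rw [pow_succ, ap_mul, β_emb, ih]
  rw [h]
  simp only [map_add, map_smul, ap_mul, ap_ext_pa, ap_ext_pb, ap_ext_emb, hk, hb, hfix, emb_res₀]
  rw [← ap_emb ⟨w, hw⟩, hfix]

theorem res₀_mem (ω : Cβ) : res₀ ω ∈ Cfsg.Omega (ZMod 2) ⇑q6 := by
  obtain ⟨k, hk⟩ := exists_eq ω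
  refine (ext_mem_iff _).1 ?_
  have h := (mem_Cβ.1 ω.2).1
  rwa [hk, Subgroup.mul_mem_cancel_left _ (pow_mem β_mem k)] at h

/-- The restriction, onto `Ω⁻₆(2)`. -/
noncomputable def res : Cβ →* Cfsg.Omega (ZMod 2) ⇑q6 := res₀.codRestrict _ res₀_mem

theorem ext_mem_Cβ {η : IsoGrp q6} (hη : η ∈ Cfsg.Omega (ZMod 2) ⇑q6) : ext η ∈ Cβ :=
  mem_Cβ.2 ⟨(ext_mem_iff η).2 hη, ext_comm_β η⟩

theorem res_ext (η : Cfsg.Omega (ZMod 2) ⇑q6) : res ⟨ext η, ext_mem_Cβ η.2⟩ = η :=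
  Subtype.ext (ext_ap fun y => by
    show ap (res₀ _) y = _
    exact (ap_resFun _ y).trans (by rw [ap_ext_emb, prj_emb]))

theorem res_surj : Function.Surjective res := fun η => ⟨_, res_ext η⟩

theorem res_β : res ⟨β, β_mem_Cβ⟩ = 1 :=
  Subtype.ext (ext_ap fun y => by
    show ap (res₀ _) y = _
    rw [Subgroup.coe_one, ap_one]
    exact (ap_resFun _ y).trans (by rw [β_emb, prj_emb]))

theorem res_eq_one {ω : Cβ} : res ω = 1 ↔ ∃ k : ℕ, (ω : IsoGrp qm) = β ^ k := by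
  constructor
  · intro h
    obtain ⟨k, hk⟩ := exists_eq ω
    have h0 : res₀ ω = 1 := congrArg Subtype.val h
    exact ⟨k, by rw [hk, h0, map_one, mul_one]⟩
  · rintro ⟨k, hk⟩
    rw [show ω = ⟨β, β_mem_Cβ⟩ ^ k from Subtype.ext hk, map_pow, res_β, one_pow]

/-- An element of `Cβ` fixing the plane is an extension. -/
theorem eq_ext_of_fix {ω : Cβ} (h : ap (ω : IsoGrp qm) pa = pa) :
    (ω : IsoGrp qm) = ext (res₀ ω) := by
  obtain ⟨k, hk⟩ := exists_eq ω
  rw [hk, ap_mul, ap_ext_pa] at h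
  have hβ1 : ap (β ^ (k % 3)) pa = pa := by
    rwa [← Nat.div_add_mod k 3, pow_add, pow_mul, β_cube, one_pow, one_mul] at h
  have : k % 3 = 0 := by
    have h3 : k % 3 < 3 := Nat.mod_lt _ (by norm_num)
    interval_cases hk3 : k % 3
    · rfl
    · rw [pow_one, β_pa] at hβ1
      exact absurd (CoFive.ofN_inj (by norm_num) (by norm_num) hβ1) (by decide)
    · rw [pow_two, ap_mul, β_pa, β_pb, add_eq_left] at hβ1
      exact absurd (CoFive.ofN_inj (by norm_num) (by norm_num) (hβ1.trans CoFive.ofN_zero.symm))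
        (by decide)
  rw [hk, ← Nat.div_add_mod k 3, this, add_zero, pow_mul, β_cube, one_pow, one_mul]

/-- Products of commutators fix the plane. -/
theorem fix_of_mem_commutator {ω : Cβ} (h : ω ∈ commutator Cβ) : ap (ω : IsoGrp qm) pa = pa := by
  let ψ : Cβ →* IsoGrp qm := ext.comp res₀
  have hψ : ∀ u : Cβ, ∃ k : ℕ, (u : IsoGrp qm) = β ^ k * ψ u := exists_eq
  have key : ∀ u v : Cβ, ((⁅u, v⁆ : Cβ) : IsoGrp qm) = ψ ⁅u, v⁆ := by
    intro u v
    obtain ⟨i, hi⟩ := hψ u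
    obtain ⟨j, hj⟩ := hψ v
    rw [map_commutatorElement]
    show ⁅(u : IsoGrp qm), (v : IsoGrp qm)⁆ = _
    have c1 : Commute (β ^ i) (ψ u) := Commute.pow_left (ext_comm_β _).symm i
    have c2 : Commute (β ^ i) (ψ v) := Commute.pow_left (ext_comm_β _).symm i
    have c3 : Commute (β ^ j) (ψ u) := Commute.pow_left (ext_comm_β _).symm j
    have c4 : Commute (β ^ j) (ψ v) := Commute.pow_left (ext_comm_β _).symm j
    have c5 : Commute (β ^ i) (β ^ j) := Commute.pow_pow_self β i j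
    rw [hi, hj]
    generalize β ^ i = p at c1 c2 c5 ⊢
    generalize β ^ j = q at c3 c4 c5 ⊢
    generalize ψ u = a at c1 c3 ⊢
    generalize ψ v = b at c2 c4 ⊢
    rw [commutatorElement_def, commutatorElement_def]
    have e1 : Commute p (a * (q * b) * a⁻¹) :=
      (c1.mul_right (c5.mul_right c2)).mul_right c1.inv_right
    have e2 : Commute q (a * b * a⁻¹) := (c3.mul_right c4).mul_right c3.inv_right
    calc p * a * (q * b) * (p * a)⁻¹ * (q * b)⁻¹ = p * (a * (q * b) * a⁻¹) * p⁻¹ * (q * b)⁻¹ := by group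
      _ = a * (q * b) * a⁻¹ * (q * b)⁻¹ := by rw [e1.eq, mul_inv_cancel_right]
      _ = (a * q) * b * a⁻¹ * b⁻¹ * q⁻¹ := by group
      _ = q * (a * b * a⁻¹) * (b⁻¹ * q⁻¹) := by rw [← c3.eq]; group
      _ = a * b * a⁻¹ * (q * b⁻¹ * q⁻¹) := by rw [e2.eq]; group
      _ = a * b * a⁻¹ * b⁻¹ := by rw [c4.inv_right.eq, mul_inv_cancel_right]
  have hle : commutator Cβ ≤ MonoidHom.eqLocus Cβ.subtype ψ := by
    rw [commutator_def, Subgroup.commutator_le]
    exact fun u _ v _ => key u v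
  rw [show (ω : IsoGrp qm) = ψ ω from hle h]
  exact ap_ext_pa _

end Cfsg.Agent.CoThree
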