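/-
The centraliser of `z` and an element of order three acting as `β` (helper18).

* `Std`, `exists_std` : coordinates in which the element acts as `β`
* `K`, `ψ` : `C(z, x)` and its map onto `Ω⁻₆(2)`; `R` : the fixed part of the radical
* `exists_fuse` : a conjugate of `z` in `R` under `C(x)`
-/
import Cfsg.Agent.Lib.CoThree.Thr
import Cfsg.Agent.Lib.CoFive.Local

set_option autoImplicit false
open scoped commutatorElement Pointwise

namespace Cfsg.Agent.CoThree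

open Cfsg.Agent.CoType Cfsg.Agent.Orth Cfsg.Agent.LargeExtraspecial
open QuadraticMap (polar)

variable {G : Type*} [Group G]

theorem Thr.twist {T : Co G} {y : G} (h : Thr T y) {ω : IsoGrp qm}
    (hω : ω ∈ Cfsg.Omega (ZMod 2) ⇑qm) : Thr (T.twist ω hω) y := by
  refine ⟨h.hz, h.cube, ?_⟩
  rw [← h.fix]
  refine Nat.card_congr
    { toFun := fun v => ⟨ap ω⁻¹ v, ap_inj ω (by
        have := v.2
        simp only [CoType.Co.twist, ap_mul] at this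
        rw [this, ap_ap_inv])⟩
      invFun := fun v => ⟨ap ω v, by
        show ap (ω * T.ρ y * ω⁻¹) (ap ω v) = _
        rw [ap_mul, ap_mul, ap_inv_ap, v.2]⟩
      left_inv := fun v => Subtype.ext (ap_ap_inv ω _)
      right_inv := fun v => Subtype.ext (ap_inv_ap ω _) }

/-- An element acting as `β`. -/
structure Std (G : Type*) [Group G] where
  T : Co G
  x : G
  hx : Thr T x
  hρ : T.ρ x = β

theorem exists_std {T : Co G} {x : G} (h : Thr T x) :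
    ∃ S : Std G, S.x = x ∧ S.T.z = T.z ∧ S.T.Q = T.Q ∧
      (∀ y, Thr T y → Thr S.T y) ∧ (∀ y, Thr S.T y → Thr T y) ∧
      ∃ ω : IsoGrp qm, ∀ g, S.T.ρ g = ω * T.ρ g * ω⁻¹ := by
  obtain ⟨ω, hω, he⟩ := h.exists_conj
  refine ⟨⟨T.twist ω hω, x, h.twist hω, he⟩, rfl, rfl, rfl, fun y hy => hy.twist hω, fun y hy => ?_,
    ω, fun g => rfl⟩
  have h2 := hy.twist (inv_mem hω)
  refine ⟨hy.hz, hy.cube, ?_⟩
  rw [← h2.fix]
  refine Nat.card_congr (Equiv.subtypeEquivRight fun v => ?_)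
  show _ ↔ ap (ω⁻¹ * (ω * T.ρ y * ω⁻¹) * ω⁻¹⁻¹) v = v
  simp [mul_assoc]

namespace Std

variable (S : Std G)

/-- The centraliser of `z` and `x`. -/
def K : Subgroup G := Subgroup.centralizer {S.T.z} ⊓ Subgroup.centralizer {S.x}

theorem mem_K {k : G} : k ∈ S.K ↔ k * S.T.z = S.T.z * k ∧ k * S.x = S.x * k := by
  rw [K, Subgroup.mem_inf, Subgroup.mem_centralizer_singleton_iff,
    Subgroup.mem_centralizer_singleton_iff]

theorem x_mem_K : S.x ∈ S.K := S.mem_K.2 ⟨S.hx.hz, rfl⟩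

theorem ρ_comm {k : G} (hk : k ∈ S.K) : S.T.ρ k ∈ Cβ := by
  obtain ⟨h1, h2⟩ := S.mem_K.1 hk
  refine mem_Cβ.2 ⟨S.T.ρ_mem k h1, ?_⟩
  rw [← S.hρ, ← S.T.ρ_mul k S.x h1 S.hx.hz, h2, S.T.ρ_mul S.x k S.hx.hz h1]

/-- The action of `K`. -/
noncomputable def ρK : S.K →* Cβ where
  toFun k := ⟨S.T.ρ k, S.ρ_comm k.2⟩
  map_one' := Subtype.ext S.T.ρ_one
  map_mul' a b := Subtype.ext (S.T.ρ_mul a b (S.mem_K.1 a.2).1 (S.mem_K.1 b.2).1)

theorem ρ_pow_x (i : ℕ) : S.T.ρ (S.x ^ i) = β ^ i := by rw [ρ_pow S.T S.hx.hz, S.hρ]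

theorem eq_one_of_pow_mem [Finite G] {i : ℕ} (h : S.x ^ i ∈ S.T.Q) : S.x ^ i = 1 := by
  have h1 : orderOf (S.x ^ i) ∣ 2 ^ 9 := S.T.card_Q ▸ Subgroup.orderOf_dvd_natCard S.T.Q h
  have h2 : orderOf (S.x ^ i) ∣ 3 := orderOf_dvd_of_pow_eq_one (by
    rw [← pow_mul, mul_comm, pow_mul, S.hx.cube, one_pow])
  exact orderOf_eq_one_iff.1 (Nat.eq_one_of_dvd_coprimes (by norm_num : Nat.Coprime (2 ^ 9) 3) h1 h2)

theorem mem_zpowers_x [Finite G] {y : G} : y ∈ Subgroup.zpowers S.x ↔ ∃ i : ℕ, y = S.x ^ i := by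
  rw [← mem_powers_iff_mem_zpowers]
  exact ⟨fun ⟨i, h⟩ => ⟨i, h.symm⟩, fun ⟨i, h⟩ => ⟨i, h.symm⟩⟩

theorem eq_one_of_zpowers_mem [Finite G] {y : G} (h : y ∈ Subgroup.zpowers S.x) (hQ : y ∈ S.T.Q) :
    y = 1 := by
  obtain ⟨i, rfl⟩ := S.mem_zpowers_x.1 h
  exact S.eq_one_of_pow_mem hQ

theorem x_norm [Finite G] : Subgroup.zpowers S.x ≤ Subgroup.normalizer (S.T.Q : Set G) :=
  Subgroup.zpowers_le.2 (Subgroup.mem_normalizer_fintype fun q hq => S.T.data.norm S.x S.hx.hz q hq)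

theorem ρK_surj [Finite G] : Function.Surjective S.ρK := by
  rintro ⟨a, ha⟩
  obtain ⟨hΩ, hc⟩ := mem_Cβ.1 ha
  obtain ⟨h, hh, hρ⟩ := S.T.ρ_surj a hΩ
  have hhx : h * S.x * S.T.z = S.T.z * (h * S.x) := (Commute.mul_left hh S.hx.hz).eq
  have hhxh : h * S.x * h⁻¹ * S.T.z = S.T.z * (h * S.x * h⁻¹) :=
    (Commute.mul_left hhx (Commute.inv_left hh)).eq
  have hq : h * S.x * h⁻¹ * S.x⁻¹ ∈ S.T.Q := by
    refine (S.T.ρ_ker _ (Commute.mul_left hhxh (Commute.inv_left S.hx.hz)).eq).1 ?_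
    rw [S.T.ρ_mul _ _ hhxh (Commute.inv_left S.hx.hz).eq, S.T.ρ_mul _ _ hhx (Commute.inv_left hh).eq,
      S.T.ρ_mul _ _ hh S.hx.hz, S.T.ρ_inv hh, S.T.ρ_inv S.hx.hz, hρ, S.hρ, hc]
    group
  have hcop : (Nat.card (Subgroup.zpowers S.x)).Coprime (Nat.card S.T.Q) := by
    rw [Nat.card_zpowers, S.hx.orderOf_eq, S.T.card_Q]; norm_num
  have hle : MulAut.conj h • Subgroup.zpowers S.x ≤ S.T.Q ⊔ Subgroup.zpowers S.x := by
    intro y hy
    rw [Coprime.mem_conj, S.mem_zpowers_x] at hy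
    obtain ⟨i, hi⟩ := hy
    have : y = (h * S.x * h⁻¹ * S.x⁻¹ * S.x) ^ i := by
      rw [inv_mul_cancel_right, conj_pow, ← hi]; group
    rw [this]
    exact pow_mem (Subgroup.mul_mem_sup hq (Subgroup.mem_zpowers _)) i
  obtain ⟨q, hqQ, hqe⟩ := Coprime.exists_conj_eq_of_le_sup S.x_norm hcop
    (Or.inr (by haveI := (IsPGroup.of_card S.T.card_Q).isNilpotent; infer_instance))
    hle (Coprime.card_conj _ _)
  have hqz : q⁻¹ * S.T.z = S.T.z * q⁻¹ := (Commute.inv_left (S.T.Qz hqQ)).eq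
  let c : G := q⁻¹ * h
  have hcz : c * S.T.z = S.T.z * c := (Commute.mul_left hqz hh).eq
  have hρc : S.T.ρ c = a := by
    rw [S.T.ρ_mul _ _ hqz hh, S.T.ρ_Q (inv_mem hqQ), one_mul, hρ]
  have hcx : c * S.x * c⁻¹ * S.x⁻¹ ∈ Subgroup.zpowers S.x := by
    refine mul_mem ?_ (inv_mem (Subgroup.mem_zpowers _))
    have : h * S.x * h⁻¹ ∈ MulAut.conj q • Subgroup.zpowers S.x :=
      hqe.symm ▸ Coprime.conj_mem_conj.2 (Subgroup.mem_zpowers _)
    rw [Coprime.mem_conj] at this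
    convert this using 1
    simp only [c]; group
  have h1 := S.eq_one_of_zpowers_mem hcx (by
    have hcx' : c * S.x * S.T.z = S.T.z * (c * S.x) := (Commute.mul_left hcz S.hx.hz).eq
    have hcxc : c * S.x * c⁻¹ * S.T.z = S.T.z * (c * S.x * c⁻¹) :=
      (Commute.mul_left hcx' (Commute.inv_left hcz)).eq
    refine (S.T.ρ_ker _ (Commute.mul_left hcxc (Commute.inv_left S.hx.hz)).eq).1 ?_
    rw [S.T.ρ_mul _ _ hcxc (Commute.inv_left S.hx.hz).eq, S.T.ρ_mul _ _ hcx' (Commute.inv_left hcz).eq,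
      S.T.ρ_mul _ _ hcz S.hx.hz, S.T.ρ_inv hcz, S.T.ρ_inv S.hx.hz, hρc, S.hρ, hc]
    group)
  exact ⟨⟨c, S.mem_K.2 ⟨hcz, mul_inv_eq_iff_eq_mul.1 (mul_inv_eq_one.1 h1)⟩⟩, Subtype.ext hρc⟩

/-- The map onto `Ω⁻₆(2)`. -/
noncomputable def ψ : S.K →* Cfsg.Omega (ZMod 2) ⇑q6 := res.comp S.ρK

theorem ψ_surj [Finite G] : Function.Surjective S.ψ := res_surj.comp S.ρK_surj

theorem ψ_eq_one [Finite G] {k : S.K} : S.ψ k = 1 ↔ ∃ i : ℕ, (k : G) * (S.x ^ i)⁻¹ ∈ S.T.Q := by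
  have hz : ∀ i : ℕ, (S.x ^ i)⁻¹ * S.T.z = S.T.z * (S.x ^ i)⁻¹ := fun i =>
    (Commute.inv_left (Commute.pow_left S.hx.hz i)).eq
  have hkz := (S.mem_K.1 k.2).1
  show res (S.ρK k) = 1 ↔ _
  rw [res_eq_one]
  refine exists_congr fun i => ?_
  rw [← S.T.ρ_ker _ (Commute.mul_left hkz (hz i)).eq, S.T.ρ_mul _ _ hkz (hz i),
    S.T.ρ_inv (Commute.pow_left S.hx.hz i).eq, S.ρ_pow_x, mul_inv_eq_one]
  rfl

/-- The fixed points in the radical. -/
def R : Subgroup G := S.T.Q ⊓ Subgroup.centralizer {S.x}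

theorem mem_R {q : G} : q ∈ S.R ↔ q ∈ S.T.Q ∧ ap β (S.T.c q) = S.T.c q := by
  rw [R, Subgroup.mem_inf, Subgroup.mem_centralizer_singleton_iff]
  refine and_congr_right fun hq => ?_
  rw [← S.hρ]
  exact eq_comm.trans (comm_iff_fix S.hx.hz S.hx.cube hq)

theorem R_le_K : S.R ≤ S.K := fun _ hq =>
  S.mem_K.2 ⟨S.T.Qz hq.1, Subgroup.mem_centralizer_singleton_iff.1 hq.2⟩

theorem exists_R (y : V6) : ∃ q ∈ S.R, S.T.c q = emb y := by
  obtain ⟨q, hq, hqc⟩ := S.T.c_surj (emb y)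
  exact ⟨q, S.mem_R.2 ⟨hq, by rw [hqc, β_emb]⟩, hqc⟩

theorem card_R : Nat.card S.R = 2 ^ 7 := by
  rw [R, card_fix_iff S.T S.hx.hz S.hx.cube, S.hx.fix]
  norm_num

theorem z_mem_R : S.T.z ∈ S.R :=
  ⟨S.T.data.z_mem, Subgroup.mem_centralizer_singleton_iff.2 S.hx.hz.symm⟩

theorem R_extraspecial [Finite G] : Cfsg.IsExtraspecial 2 ↥S.R := by
  have he : S.R = S.T.Q ⊓ Subgroup.centralizer (Subgroup.zpowers S.x : Set G) := by
    rw [R, Subgroup.zpowers_eq_closure, Subgroup.centralizer_closure]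
  rcases (odd_decomposition S.T.data (IsPGroup.of_card S.T.card_Q) S.x_norm
    (by rw [Nat.card_zpowers, S.hx.orderOf_eq]; decide)
    (by rw [Ne, Subgroup.zpowers_eq_bot]; exact S.hx.ne_one)).2.2.2 with h | h
  · exfalso
    have hc := S.card_R
    rw [he, h, Nat.card_zpowers, orderOf_eq_prime (p := 2) (by rw [pow_two, S.T.z_sq]) S.T.z_ne] at hc
    norm_num at hc
  · rw [he]; exact h.1

/-- A conjugate of `z` other than `z` in `R`, fused inside `C(x)`. -/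
theorem exists_fuse [Finite G] :
    ∃ g : G, g * S.x = S.x * g ∧ g * S.T.z * g⁻¹ ∈ S.R ∧ g * S.T.z * g⁻¹ ≠ S.T.z := by
  obtain ⟨s, hsR, hsc⟩ := S.exists_R SuzType.v0
  obtain ⟨hsQ, -⟩ := S.mem_R.1 hsR
  have hv : SuzType.v0 ≠ (0 : V6) := SuzType.v0_ne
  have hc0 : S.T.c s ≠ 0 := fun e => hv (by rw [← prj_emb SuzType.v0, ← hsc, e, map_zero])
  have hs2 : s * s = 1 := by rw [S.T.sq s hsQ, hsc, qm_emb, SuzType.qm_v0, CoType.pw_zero]
  have hs1 : s ≠ 1 := fun e => hc0 (by rw [e, S.T.c_one])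
  have hne : s ≠ S.T.z := fun e => hc0 (by rw [e, S.T.c_z])
  obtain ⟨g0, hg0⟩ := isConj_iff.1 (CoFive.isConj_z S.T hsQ hs2 hs1).symm
  subst hg0
  set z := S.T.z with hz
  set Q := S.T.Q
  have hxs : S.x * (g0 * z * g0⁻¹) = g0 * z * g0⁻¹ * S.x :=
    (Subgroup.mem_centralizer_singleton_iff.1 hsR.2).symm
  have DP := S.T.data.conjugate g0
  have hzP : z ∈ conjS g0 Q := S.T.data.mem_conj hsQ hne (by rw [S.T.card_Q]; norm_num)
  have hA : Odd (Nat.card (Subgroup.zpowers S.x)) := by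
    rw [Nat.card_zpowers, S.hx.orderOf_eq]; decide
  have hp : IsPGroup 2 Q := IsPGroup.of_card S.T.card_Q
  have hmem : ∀ y, y ∈ Subgroup.centralizer (Subgroup.zpowers S.x : Set G) ↔ y * S.x = S.x * y := fun y => by
    rw [Subgroup.zpowers_eq_closure, Subgroup.centralizer_closure,
      Subgroup.mem_centralizer_singleton_iff]
  obtain ⟨r, hr, hrs⟩ := exists_conj_eq_centralizer S.T.data hp S.x_norm hA hsQ
    ((hmem _).2 hxs.symm) DP.z_ne hne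
  obtain ⟨q, hq, hqz⟩ := exists_conj_eq_centralizer DP (hp.map _)
    (Subgroup.zpowers_le.2 (Subgroup.mem_normalizer_fintype fun w hw => DP.norm S.x hxs w hw)) hA hzP
    ((hmem _).2 S.hx.hz.symm) S.T.z_ne hne.symm
  have hr' : r * S.x = S.x * r := (hmem _).1 hr.2
  have hq' : q * S.x = S.x * q := (hmem _).1 hq.2
  set s := g0 * z * g0⁻¹
  have hrz : r⁻¹ * z * r = z := by
    rw [mul_assoc, ← S.T.data.z_central r hr.1, inv_mul_cancel_left]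
  have hrs' : r⁻¹ * s * r = s * z := by
    calc r⁻¹ * s * r = r⁻¹ * (s * z) * r * (r⁻¹ * z * r)⁻¹ := by group
      _ = s * z⁻¹ := by rw [← hrs, hrz]; group
      _ = s * z := by rw [← eq_inv_of_mul_eq_one_left S.T.z_sq]
  refine ⟨r⁻¹ * q, (Commute.mul_left (Commute.inv_left hr') hq').eq, ?_⟩
  have : r⁻¹ * q * z * (r⁻¹ * q)⁻¹ = s := by
    calc r⁻¹ * q * z * (r⁻¹ * q)⁻¹ = r⁻¹ * (q * z * q⁻¹) * r := by group
      _ = (r⁻¹ * z * r) * (r⁻¹ * s * r) := by rw [hqz]; group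
      _ = z * (s * z) := by rw [hrz, hrs']
      _ = s := by rw [← mul_assoc, ← S.T.data.z_central s hsQ, mul_assoc, S.T.z_sq, mul_one]
  rw [this]
  exact ⟨hsR, hne⟩

end Std

end Cfsg.Agent.CoThree
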