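/-
Two commuting elements of order three moving orthogonal planes (helper18).

* `mem_derived` : the second lies in the derived subgroup of the centraliser of the first
* `sep_symm` : the condition is symmetric
* `comm_R'` : the commutator of the image of the second with the radical of the section
-/
import Cfsg.Agent.Lib.CoThree.Sect

set_option autoImplicit false
open scoped commutatorElement

namespace Cfsg.Agent.CoThree

open Cfsg.Agent.CoType Cfsg.Agent.Orth Cfsg.Agent.LargeExtraspecial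
open QuadraticMap (polar)

variable {G : Type*} [Group G]

theorem commutator_omega6 : commutator ↥(Cfsg.Omega (ZMod 2) ⇑q6) = ⊤ := by
  haveI := isSimpleGroup_omega6
  refine (Subgroup.Normal.eq_bot_or_eq_top (inferInstance : (commutator _).Normal)).resolve_left ?_
  rw [_root_.commutator_eq_bot_iff_center_eq_top, center_omega6]
  exact bot_ne_top

theorem pow_fix {n : ℕ} (h : ap (β ^ n) pa = pa) : n % 3 = 0 := by
  rw [← Nat.div_add_mod n 3, pow_add, pow_mul, β_cube, one_pow, one_mul] at h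
  have hlt : n % 3 < 3 := Nat.mod_lt _ (by norm_num)
  interval_cases hn : n % 3
  · rfl
  · rw [pow_one, β_pa] at h
    exact absurd (CoFive.ofN_inj (by norm_num) (by norm_num) h) (by decide)
  · rw [pow_two, ap_mul, β_pa, β_pb, add_eq_left] at h
    exact absurd (CoFive.ofN_inj (by norm_num) (by norm_num) (h.trans CoFive.ofN_zero.symm)) (by decide)

namespace Std

variable (S : Std G)

/-- The centraliser of `x`. -/
abbrev C : Subgroup G := Subgroup.centralizer ({S.x} : Set G)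

theorem K_le_C : S.K ≤ S.C := inf_le_right

theorem exists_ext {y : G} (hy : y ∈ S.K) (hfix : ap (S.T.ρ y) pa = pa) :
    ∃ t : IsoGrp q6, S.T.ρ y = ext t :=
  ⟨_, eq_ext_of_fix (ω := ⟨S.T.ρ y, S.ρ_comm hy⟩) hfix⟩

/-- The condition is symmetric. -/
theorem sep_symm {y : G} (hy : y ∈ S.K) (hfix : ap (S.T.ρ y) pa = pa) (u : V8) :
    ap (S.T.ρ S.x) (ap (S.T.ρ y) u + u) = ap (S.T.ρ y) u + u := by
  obtain ⟨t, ht⟩ := S.exists_ext hy hfix
  have : ap (S.T.ρ y) u + u = emb (ap t (prj u) + prj u) := by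
    rw [ht, ap_ext, add_comm u, add_assoc, ZModModule.add_self, add_zero]
  rw [this, S.hρ, β_emb]

/-- `C(x)` is the product of its derived subgroup and `⟨x⟩` when the section is perfect. -/
theorem exists_derived {H : Type*} [Group H] [Finite G] (E : Sect S H) (hH : commutator H = ⊤)
    {c : G} (hc : c ∈ S.C) : ∃ i : ℕ, c * (S.x ^ i)⁻¹ ∈ ⁅S.C, S.C⁆ := by
  have hmap : (commutator S.C).map E.φ = ⊤ := by
    rw [commutator_def, Subgroup.map_commutator, Subgroup.map_top_of_surjective _ E.surj,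
      ← commutator_def, hH]
  obtain ⟨d, hd, he⟩ : E.φ ⟨c, hc⟩ ∈ (commutator S.C).map E.φ := hmap ▸ Subgroup.mem_top _
  obtain ⟨i, hi⟩ := S.mem_zpowers_x.1 ((E.ker (d⁻¹ * ⟨c, hc⟩)).1 (by rw [map_mul, map_inv, he, inv_mul_cancel]))
  refine ⟨i, ?_⟩
  have h' : (d : G)⁻¹ * c = S.x ^ i := hi
  rw [← h']
  have hd' : (d : G) ∈ ⁅S.C, S.C⁆ := by
    rw [← Subgroup.map_subtype_commutator]
    exact ⟨d, hd, rfl⟩
  rwa [show c * ((d : G)⁻¹ * c)⁻¹ = (d : G) by group]

theorem R_le_derived {H : Type*} [Group H] [Finite G] (E : Sect S H) (hH : commutator H = ⊤) :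
    S.R ≤ ⁅S.C, S.C⁆ := by
  intro r hr
  obtain ⟨i, hi⟩ := S.exists_derived E hH (S.K_le_C (S.R_le_K hr))
  have hrp : r ^ 128 = 1 := by
    have h := pow_card_eq_one' (x := (⟨r, hr⟩ : S.R))
    rw [S.card_R] at h
    exact congrArg Subtype.val h
  have hc : Commute r (S.x ^ i)⁻¹ :=
    ((show Commute r S.x from Subgroup.mem_centralizer_singleton_iff.1 hr.2).pow_right i).inv_right
  have h1 := pow_mem hi 128
  rw [hc.mul_pow, hrp, one_mul, inv_pow, inv_mem_iff, ← pow_mul] at h1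
  have h2 : S.x ^ i ∈ ⁅S.C, S.C⁆ := by
    have h3 := pow_mem h1 2
    have h4 : S.x ^ (i * 128 * 2) = S.x ^ i := by
      rw [show i * 128 * 2 = 3 * (i * 85) + i by ring, pow_add, pow_mul, S.hx.cube, one_pow, one_mul]
    rwa [← pow_mul, h4] at h3
  have h5 := mul_mem hi h2
  rwa [inv_mul_cancel_right] at h5

/-- An element of order three fixing the plane lies in the derived subgroup of `C(x)`. -/
theorem mem_derived {H : Type*} [Group H] [Finite G] (E : Sect S H) (hH : commutator H = ⊤)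
    {y : G} (hy : y ∈ S.K) (hfix : ap (S.T.ρ y) pa = pa) : y ∈ ⁅S.C, S.C⁆ := by
  have hmap : (commutator S.K).map S.ψ = ⊤ := by
    rw [commutator_def, Subgroup.map_commutator, Subgroup.map_top_of_surjective _ S.ψ_surj,
      ← commutator_def, commutator_omega6]
  obtain ⟨k, hk, he⟩ : S.ψ ⟨y, hy⟩ ∈ (commutator S.K).map S.ψ := hmap ▸ Subgroup.mem_top _
  obtain ⟨i, hi⟩ := S.ψ_eq_one.1 (show S.ψ (k⁻¹ * ⟨y, hy⟩) = 1 by rw [map_mul, map_inv, he, inv_mul_cancel])
  have hkC : (k : G) ∈ ⁅S.C, S.C⁆ :=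
    Subgroup.commutator_mono S.K_le_C S.K_le_C (by
      rw [← Subgroup.map_subtype_commutator]; exact ⟨k, hk, rfl⟩)
  have hkfix : ap (S.T.ρ k) pa = pa := by
    refine fix_of_mem_commutator (ω := S.ρK k) ?_
    have h := Subgroup.mem_map_of_mem S.ρK hk
    rw [commutator_def, Subgroup.map_commutator, Subgroup.map_top_of_surjective _ S.ρK_surj] at h
    exact h
  have hkz := (S.mem_K.1 k.2).1
  have hyz := (S.mem_K.1 hy).1
  have hρ : S.T.ρ ((k : G)⁻¹ * y) = β ^ i := by
    have hw : (k : G)⁻¹ * y * S.T.z = S.T.z * ((k : G)⁻¹ * y) :=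
      (Commute.mul_left (Commute.inv_left hkz) hyz).eq
    have hxz : (S.x ^ i)⁻¹ * S.T.z = S.T.z * (S.x ^ i)⁻¹ :=
      (Commute.inv_left (Commute.pow_left S.hx.hz i)).eq
    have h : S.T.ρ ((k : G)⁻¹ * y * (S.x ^ i)⁻¹) = 1 := S.T.ρ_Q hi
    rwa [S.T.ρ_mul _ _ hw hxz, S.T.ρ_inv (Commute.pow_left S.hx.hz i).eq, S.ρ_pow_x, mul_inv_eq_one] at h
  have hi0 : i % 3 = 0 := by
    refine pow_fix ?_
    rw [← hρ, S.T.ρ_mul _ _ (Commute.inv_left hkz).eq hyz, ap_mul, hfix, S.T.ρ_inv hkz]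
    conv_lhs => rw [← hkfix]
    rw [ap_inv_ap]
  have hxi : S.x ^ i = 1 := by
    rw [← Nat.div_add_mod i 3, hi0, add_zero, pow_mul, S.hx.cube, one_pow]
  rw [hxi, inv_one, mul_one] at hi
  have hr : (k : G)⁻¹ * y ∈ S.R :=
    ⟨hi, mul_mem (Subgroup.inv_mem _ k.2.2) hy.2⟩
  have := mul_mem hkC (S.R_le_derived E hH hr)
  rwa [mul_inv_cancel_left] at this

/-- The commutator with `Q` of such an element lies in `R`. -/
theorem comm_le_R [Finite G] {y : G} (hy : y ∈ S.K) (hfix : ap (S.T.ρ y) pa = pa) :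
    ⁅S.T.Q, Subgroup.zpowers y⁆ ≤ S.R := by
  obtain ⟨t, ht⟩ := S.exists_ext hy hfix
  have hyz := (S.mem_K.1 hy).1
  refine Subgroup.commutator_le.2 fun q hq w hw => ?_
  obtain ⟨n, rfl⟩ := (mem_powers_iff_mem_zpowers.2 hw : w ∈ Submonoid.powers y)
  have hn : y ^ n * S.T.z = S.T.z * y ^ n := (Commute.pow_left hyz n).eq
  have hq' := S.T.data.norm _ hn _ (inv_mem hq)
  rw [show ⁅q, y ^ n⁆ = q * (y ^ n * q⁻¹ * (y ^ n)⁻¹) by rw [commutatorElement_def]; group]
  refine S.mem_R.2 ⟨mul_mem hq hq', ?_⟩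
  rw [S.T.c_mul q hq _ hq', S.T.ρ_conj _ hn _ (inv_mem hq), S.T.c_inv hq, ρ_pow S.T hyz, ht, ← map_pow,
    ap_ext, ← add_assoc, ZModModule.add_self, zero_add, β_emb]

end Std

namespace Sect

variable {S : Std G} {H : Type*} [Group H] (E : Sect S H)

/-- The commutator with the radical of the section. -/
theorem comm_R' [Finite G] {y : G} (hy : y ∈ S.K) (hT : Thr S.T y) (hfix : ap (S.T.ρ y) pa = pa) :
    Nat.card ↥⁅E.R', Subgroup.zpowers (E.ι ⟨y, hy⟩)⁆ = 8 ∧
      ¬ IsMulCommutative ↥⁅E.R', Subgroup.zpowers (E.ι ⟨y, hy⟩)⁆ := by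
  have hle := S.comm_le_R hy hfix
  have hRQ : S.R ≤ S.T.Q := inf_le_left
  have hnorm : Subgroup.zpowers y ≤ Subgroup.normalizer (S.T.Q : Set G) :=
    Subgroup.zpowers_le.2 (Subgroup.mem_normalizer_fintype fun q hq => S.T.data.norm y hT.hz q hq)
  have heq : ⁅S.R, Subgroup.zpowers y⁆ = ⁅S.T.Q, Subgroup.zpowers y⁆ := by
    refine le_antisymm (Subgroup.commutator_mono hRQ le_rfl) ?_
    have h2 := Coprime.commutator_commutator_eq hnorm
      (by rw [Nat.card_zpowers, hT.orderOf_eq, S.T.card_Q]; norm_num)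
      (Or.inr (by haveI := (IsPGroup.of_card S.T.card_Q).isNilpotent; infer_instance))
    exact h2.ge.trans (Subgroup.commutator_mono hle le_rfl)
  set B := ⁅S.T.Q, Subgroup.zpowers y⁆
  let f : B →* Subgroup.centralizer ({E.zb} : Set H) :=
    E.ι.comp (Subgroup.inclusion (hle.trans S.R_le_K))
  have hinj : Function.Injective f := (injective_iff_map_eq_one _).2 fun b hb =>
    Subtype.ext (E.ι_inj (k := ⟨b, S.R_le_K (hle b.2)⟩) (hRQ (hle b.2)) hb)
  have hrange : f.range = ⁅E.R', Subgroup.zpowers (E.ι ⟨y, hy⟩)⁆ := by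
    rw [← MonoidHom.map_zpowers, R', ← Subgroup.map_commutator, MonoidHom.range_comp,
      Subgroup.inclusion_range]
    congr 1
    refine Subgroup.map_injective S.K.subtype_injective ?_
    rw [Subgroup.map_commutator, MonoidHom.map_zpowers, Subgroup.map_subgroupOf_eq_of_le S.R_le_K,
      Subgroup.map_subgroupOf_eq_of_le (hle.trans S.R_le_K)]
    exact heq.symm
  rw [← hrange]
  refine ⟨by rw [← Nat.card_congr (MonoidHom.ofInjective hinj).toEquiv, hT.card_comm], fun hc => ?_⟩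
  have hex := hT.comm_nonabelian
  have hbot : _root_.commutator B = ⊥ := by
    rw [_root_.commutator_eq_bot_iff_center_eq_top, Subgroup.eq_top_iff']
    intro a
    refine Subgroup.mem_center_iff.2 fun b => hinj ?_
    rw [map_mul, map_mul]
    exact congrArg Subtype.val (hc.1.1 ⟨f b, b, rfl⟩ ⟨f a, a, rfl⟩)
  have h2 := hex.2
  rw [← hex.1.2.2, hbot, Subgroup.card_bot] at h2
  omega

end Sect

end Cfsg.Agent.CoThree
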