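/-
The centraliser of an element of order three of Suzuki type in a group of Conway type (helper18).

* `mem_commutator` : such an element lies in the derived subgroup of its centraliser
* `quasisimple` : the centraliser is quasisimple
-/
import Cfsg.Agent.Lib.CoThree.Cross

set_option autoImplicit false
open scoped commutatorElement

namespace Cfsg.Agent.CoThree

open Cfsg.Agent.CoType Cfsg.Agent.Orth Cfsg.Agent.LargeExtraspecial
open QuadraticMap (polar)

universe u

variable {G : Type u} [Group G]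

/-- The input from the group of Suzuki type: its centraliser of the element of order three is perfect. -/
def PerfectInput (H : Type u) [Group H] : Prop :=
  ∀ (z : H), orderOf z = 2 → ∀ (Q : Subgroup (Subgroup.centralizer ({z} : Set H))) [Q.Normal],
    Cfsg.generalizedFittingSubgroup (Subgroup.centralizer ({z} : Set H)) = Q →
    Cfsg.IsExtraspecial 2 Q → Nat.card Q = 2 ^ 7 →
    Nonempty ((Subgroup.centralizer ({z} : Set H)) ⧸ Q ≃*
      Cfsg.Omega (ZMod 2) (Cfsg.quadFormMinus 2 (ZMod 2) 1 1)) →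
    (∃ g : H, (∃ hq : g * z * g⁻¹ ∈ Subgroup.centralizer ({z} : Set H),
      (⟨g * z * g⁻¹, hq⟩ : Subgroup.centralizer ({z} : Set H)) ∈ Q) ∧ g * z * g⁻¹ ≠ z) →
    ∀ (y : Subgroup.centralizer ({z} : Set H)), orderOf y = 3 →
      Nat.card ↥⁅Q, Subgroup.zpowers y⁆ = 8 → ¬ IsMulCommutative ↥⁅Q, Subgroup.zpowers y⁆ →
      ⁅Subgroup.centralizer ({(y : H)} : Set H), Subgroup.centralizer ({(y : H)} : Set H)⁆ =
        Subgroup.centralizer ({(y : H)} : Set H)

namespace Std

variable (S : Std G)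

theorem C_comm : ∀ w ∈ Subgroup.zpowers S.x, ∀ c ∈ S.C, c * w = w * c := by
  rintro _ ⟨n, rfl⟩ c hc
  exact ((show Commute c S.x from Subgroup.mem_centralizer_singleton_iff.1 hc).zpow_right n).eq

instance zpowers_normal : ((Subgroup.zpowers S.x).subgroupOf S.C).Normal :=
  ⟨fun w hw c => by
    rw [Subgroup.mem_subgroupOf] at hw ⊢
    show (c : G) * w * (c : G)⁻¹ ∈ _
    rwa [S.C_comm _ hw _ c.2, mul_inv_cancel_right]⟩

/-- The section. -/
abbrev Quot : Type u := ↥S.C ⧸ (Subgroup.zpowers S.x).subgroupOf S.C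

/-- The canonical surjection. -/
noncomputable def sect : Sect S S.Quot :=
  ⟨QuotientGroup.mk' _, QuotientGroup.mk'_surjective _,
    fun c => (QuotientGroup.eq_one_iff c).trans Subgroup.mem_subgroupOf⟩

end Std

namespace Sect

variable {S : Std G} {H : Type u} [Group H] (E : Sect S H)

include E in
/-- Perfectness of the centraliser of `ι y` gives `y ∈ C(x, y)' ⟨x⟩`. -/
theorem mem_of_perfect [Finite G] [Finite H] (hin : PerfectInput H) {y : G} (hy : y ∈ S.K)
    (hT : Thr S.T y) (hfix : ap (S.T.ρ y) pa = pa) :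
    ∃ m ∈ ⁅S.C ⊓ Subgroup.centralizer ({y} : Set G), S.C ⊓ Subgroup.centralizer ({y} : Set G)⁆,
      ∃ i : ℕ, y = m * S.x ^ i := by
  classical
  haveI := E.R'_normal
  set yb := E.ι ⟨y, hy⟩ with hyb
  have hord : orderOf yb = 3 := by
    haveI : Fact (Nat.Prime 3) := ⟨Nat.prime_three⟩
    refine orderOf_eq_prime ?_ ?_
    · rw [hyb, ← map_pow, show (⟨y, hy⟩ : S.K) ^ 3 = 1 from Subtype.ext hT.cube, map_one]
    · intro h
      obtain ⟨i, hi⟩ := S.mem_zpowers_x.1 (E.ι_eq_one.1 h)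
      have hi0 : i % 3 = 0 := pow_fix (by
        rw [← S.ρ_pow_x, ← show y = S.x ^ i from hi]; exact hfix)
      refine hT.ne_one ?_
      rw [show y = S.x ^ i from hi, ← Nat.div_add_mod i 3, hi0, add_zero, pow_mul, S.hx.cube, one_pow]
  obtain ⟨hc8, hna⟩ := E.comm_R' hy hT hfix
  have hP := hin E.zb E.orderOf_zb E.R' E.genFitting E.R'_extraspecial E.card_R'
    (E.quot_iso E.R'_normal) E.not_weakly_closed yb hord hc8 hna
  let yC : S.C := ⟨y, S.K_le_C hy⟩
  have hφy : (yb : H) = E.φ yC := rfl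
  let P : Subgroup S.C := (Subgroup.centralizer ({(yb : H)} : Set H)).comap E.φ
  have hPmap : P.map E.φ = Subgroup.centralizer ({(yb : H)} : Set H) :=
    Subgroup.map_comap_eq_self_of_surjective E.surj _
  have hsplit : ∀ p ∈ P, ∃ q ∈ ⁅P, P⁆, ∃ i : ℕ, (p : G) = (q : G) * S.x ^ i := by
    intro p hp
    have h : E.φ p ∈ ⁅P, P⁆.map E.φ := by
      rw [Subgroup.map_commutator, hPmap, hP, ← hPmap]
      exact ⟨p, hp, rfl⟩
    obtain ⟨q, hq, he⟩ := h
    obtain ⟨i, hi⟩ := S.mem_zpowers_x.1 ((E.ker (q⁻¹ * p)).1 (by rw [map_mul, map_inv, he, inv_mul_cancel]))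
    exact ⟨q, hq, i, by rw [← hi]; simp⟩
  have hshift : ∀ p ∈ P, ∃ i : ℕ, (p : G) * y * (p : G)⁻¹ = y * S.x ^ i := by
    intro p hp
    have h1 : E.φ p * E.φ yC = E.φ yC * E.φ p := by
      rw [← hφy]; exact Subgroup.mem_centralizer_singleton_iff.1 hp
    obtain ⟨i, hi⟩ := S.mem_zpowers_x.1 ((E.ker (yC⁻¹ * (p * yC * p⁻¹))).1 (by
      simp only [map_mul, map_inv]
      rw [h1, mul_inv_cancel_right, inv_mul_cancel]))
    exact ⟨i, by rw [← hi]; simp [yC]⟩
  have hder : ∀ q ∈ ⁅P, P⁆, (q : G) * y = y * q := by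
    have hle : ⁅P, P⁆ ≤ (Subgroup.centralizer ({y} : Set G)).subgroupOf S.C := by
      refine Subgroup.commutator_le.2 fun a ha b hb => ?_
      rw [Subgroup.mem_subgroupOf, Subgroup.mem_centralizer_singleton_iff]
      obtain ⟨i, hi⟩ := hshift a ha
      obtain ⟨j, hj⟩ := hshift b hb
      have hxa : (a : G) * S.x ^ j * (a : G)⁻¹ = S.x ^ j := by
        rw [S.C_comm _ (pow_mem (Subgroup.mem_zpowers _) j) _ a.2, mul_inv_cancel_right]
      have hxb : (b : G) * S.x ^ i * (b : G)⁻¹ = S.x ^ i := by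
        rw [S.C_comm _ (pow_mem (Subgroup.mem_zpowers _) i) _ b.2, mul_inv_cancel_right]
      have hw : ∀ c : S.C, (c : G) * (S.x ^ i * S.x ^ j) = S.x ^ i * S.x ^ j * c := fun c =>
        S.C_comm _ (mul_mem (pow_mem (Subgroup.mem_zpowers _) i) (pow_mem (Subgroup.mem_zpowers _) j)) _ c.2
      have hu : (a : G) * b * y * ((a : G) * b)⁻¹ = y * (S.x ^ i * S.x ^ j) := by
        calc (a : G) * b * y * ((a : G) * b)⁻¹ = a * (b * y * (b : G)⁻¹) * (a : G)⁻¹ := by group
          _ = (a * y * (a : G)⁻¹) * (a * S.x ^ j * (a : G)⁻¹) := by rw [hj]; group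
          _ = y * (S.x ^ i * S.x ^ j) := by rw [hi, hxa]; group
      have hv : (b : G) * a * y * ((b : G) * a)⁻¹ = y * (S.x ^ i * S.x ^ j) := by
        calc (b : G) * a * y * ((b : G) * a)⁻¹ = b * (a * y * (a : G)⁻¹) * (b : G)⁻¹ := by group
          _ = (b * y * (b : G)⁻¹) * (b * S.x ^ i * (b : G)⁻¹) := by rw [hi]; group
          _ = y * (S.x ^ i * S.x ^ j) := by rw [hj, hxb, mul_assoc, pow_mul_comm]
      have h2 : ((⁅a, b⁆ : S.C) : G) = (a : G) * b * ((b : G) * a)⁻¹ := by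
        simp [commutatorElement_def, mul_assoc]
      rw [h2]
      set w := S.x ^ i * S.x ^ j
      set u := (a : G) * b with hu'
      set v := (b : G) * a with hv'
      have hvw : Commute v w := Commute.mul_left (hw b) (hw a)
      have e1 : v⁻¹ * y = y * w⁻¹ * v⁻¹ := by
        have e2 : v * y = y * v * w := by
          rw [mul_assoc y v w, hvw.eq, ← mul_assoc, ← hv, inv_mul_cancel_right]
        calc v⁻¹ * y = v⁻¹ * (y * v * w) * w⁻¹ * v⁻¹ := by group
          _ = y * w⁻¹ * v⁻¹ := by rw [← e2]; group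
      have hyw : Commute y w := hw ⟨y, S.K_le_C hy⟩
      calc u * v⁻¹ * y = u * y * u⁻¹ * (u * w⁻¹ * v⁻¹) := by rw [mul_assoc, e1]; group
        _ = y * (w * u * w⁻¹) * v⁻¹ := by rw [hu]; group
        _ = y * (u * v⁻¹) := by
            rw [← (show Commute u w from Commute.mul_left (hw a) (hw b)).eq, mul_inv_cancel_right, mul_assoc]
    intro q hq
    exact Subgroup.mem_centralizer_singleton_iff.1 (Subgroup.mem_subgroupOf.1 (hle hq))
  have hPy : ∀ p ∈ P, (p : G) * y = y * p := by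
    intro p hp
    obtain ⟨q, hq, i, he⟩ := hsplit p hp
    rw [he]
    exact (Commute.mul_left (hder q hq)
      (S.C_comm _ (pow_mem (Subgroup.mem_zpowers _) i) y (S.K_le_C hy)).symm).eq
  have hPle : P.map S.C.subtype ≤ S.C ⊓ Subgroup.centralizer ({y} : Set G) := by
    rintro _ ⟨p, hp, rfl⟩
    exact ⟨p.2, Subgroup.mem_centralizer_singleton_iff.2 (hPy p hp)⟩
  have hyP : yC ∈ P := Subgroup.mem_centralizer_singleton_iff.2 rfl
  obtain ⟨q, hq, i, he⟩ := hsplit yC hyP
  refine ⟨q, Subgroup.commutator_mono hPle hPle ?_, i, he⟩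
  rw [← Subgroup.map_commutator]
  exact ⟨q, hq, rfl⟩

end Sect

theorem exists_u (S : Std G) : ap (S.T.ρ S.x) pb + pb = pa := by
  rw [S.hρ, β_pb, add_assoc, ZModModule.add_self, add_zero]

/-- The element lies in the derived subgroup of its centraliser. -/
theorem mem_commutator [Finite G] (S : Std G)
    (hU : ∀ (H : Type u) [Group H] [Finite H], PerfectInput H) (hH : commutator S.Quot = ⊤)
    {y : G} (hy : y ∈ S.K) (hT : Thr S.T y) (hfix : ap (S.T.ρ y) pa = pa) :
    S.x ∈ ⁅S.C, S.C⁆ := by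
  obtain ⟨S2, hx2, hz2, -, hThr, -, ω, hω⟩ := exists_std hT
  have hxy := (S.mem_K.1 hy).2
  have hx : S.x ∈ S2.K := S2.mem_K.2 ⟨by rw [hz2]; exact S.hx.hz, by rw [hx2]; exact hxy.symm⟩
  have hfix2 : ap (S2.T.ρ S.x) pa = pa := by
    rw [← exists_u S2, hx2, hω, hω]
    set η := S.T.ρ y
    set ξ := S.T.ρ S.x
    have h1 : ap (ω * η * ω⁻¹) pb + pb = ap ω (ap η (ap ω⁻¹ pb) + ap ω⁻¹ pb) := by
      rw [map_add, ap_ap_inv, ap_mul, ap_mul]
    rw [h1, ap_mul, ap_mul, ap_inv_ap, S.sep_symm hy hfix]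
  obtain ⟨m, hm, i, he⟩ := S2.sect.mem_of_perfect (hU _) hx (hThr _ S.hx) hfix2
  have hle : S2.C ⊓ Subgroup.centralizer ({S.x} : Set G) ≤ S.C := inf_le_right
  rw [he]
  refine mul_mem (Subgroup.commutator_mono hle hle hm) (pow_mem ?_ i)
  rw [hx2]
  exact S.mem_derived S.sect hH hy hfix

theorem commutator_eq_top_of_simple {H : Type u} [Group H] [IsSimpleGroup H]
    (hna : ¬ IsMulCommutative H) : commutator H = ⊤ := by
  refine (Subgroup.Normal.eq_bot_or_eq_top (inferInstance : (commutator H).Normal)).resolve_left ?_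
  rw [_root_.commutator_eq_bot_iff_center_eq_top]
  intro h
  exact hna ⟨⟨fun a b => (Subgroup.mem_center_iff.1 (h ▸ Subgroup.mem_top b : b ∈ Subgroup.center H) a)⟩⟩

/-- The centraliser is quasisimple. -/
theorem quasisimple [Finite G] (S : Std G) (hU : ∀ (H : Type u) [Group H] [Finite H], PerfectInput H)
    (hs : IsSimpleGroup S.Quot) (hna : ¬ IsMulCommutative S.Quot)
    {y : G} (hy : y ∈ S.K) (hT : Thr S.T y) (hfix : ap (S.T.ρ y) pa = pa) :
    Cfsg.IsQuasisimple ↥S.C := by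
  haveI := hs
  have hH := commutator_eq_top_of_simple hna
  have hx := mem_commutator S hU hH hy hT hfix
  have hperf : commutator ↥S.C = ⊤ := by
    refine Subgroup.map_injective S.C.subtype_injective ?_
    rw [Subgroup.map_subtype_commutator, ← MonoidHom.range_eq_map, Subgroup.range_subtype]
    refine le_antisymm (Subgroup.commutator_le.2 fun a ha b hb =>
      mul_mem (mul_mem (mul_mem ha hb) (inv_mem ha)) (inv_mem hb)) fun c hc => ?_
    obtain ⟨i, hi⟩ := S.exists_derived S.sect hH hc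
    have := mul_mem hi (pow_mem hx i)
    rwa [inv_mul_cancel_right] at this
  have hcen : Subgroup.center ↥S.C = (Subgroup.zpowers S.x).subgroupOf S.C := by
    refine le_antisymm (fun c hc => ?_) fun c hc => Subgroup.mem_center_iff.2 fun d =>
      Subtype.ext (S.C_comm _ (Subgroup.mem_subgroupOf.1 hc) _ d.2)
    have hn := (inferInstance : (Subgroup.center ↥S.C).Normal).map S.sect.φ S.sect.surj
    rcases hn.eq_bot_or_eq_top with h | h
    · exact Subgroup.mem_subgroupOf.2
        ((S.sect.ker c).1 ((Subgroup.eq_bot_iff_forall _).1 h _ ⟨c, hc, rfl⟩))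
    · exfalso
      refine hna ⟨⟨fun a b => ?_⟩⟩
      obtain ⟨a, rfl⟩ := S.sect.surj a
      obtain ⟨w, hw, rfl⟩ : b ∈ (Subgroup.center ↥S.C).map S.sect.φ := h ▸ Subgroup.mem_top b
      rw [← map_mul, ← map_mul, Subgroup.mem_center_iff.1 hw a]
  exact ⟨⟨hperf⟩, ((QuotientGroup.quotientMulEquivOfEq hcen).isSimpleGroup)⟩

end Cfsg.Agent.CoThree
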