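/-
From the hypotheses of the statement on the element of order three in a group of Conway type to
coordinates (helper18).

* `exists_pair` : coordinates for the two elements
* `quot_setting` : the section has the hypotheses of Suzuki type
-/
import Cfsg.Agent.Lib.CoThree.Main

set_option autoImplicit false
open scoped commutatorElement

namespace Cfsg.Agent.CoThree

open Cfsg.Agent.CoType Cfsg.Agent.Orth Cfsg.Agent.LargeExtraspecial
open QuadraticMap (polar)

universe u

variable {G : Type u} [Group G]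

theorem map_comm {z : G} (Q : Subgroup (Subgroup.centralizer ({z} : Set G)))
    (X : Subgroup (Subgroup.centralizer ({z} : Set G))) :
    ⁅Q, X⁆.map (Subgroup.centralizer ({z} : Set G)).subtype =
      ⁅Q.map (Subgroup.centralizer ({z} : Set G)).subtype,
        X.map (Subgroup.centralizer ({z} : Set G)).subtype⁆ :=
  Subgroup.map_commutator _ _ _

theorem card_count (t : IsoGrp q6) :
    Nat.card {v : V8 // ap (ext t) v = v} = 4 * Nat.card {v : V6 // ap t v = v} := by
  let f : (ZMod 2 × ZMod 2) × {v : V6 // ap t v = v} → {v : V8 // ap (ext t) v = v} := fun p =>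
    ⟨p.1.1 • pa + p.1.2 • pb + emb p.2.1, by
      simp only [map_add, map_smul, ap_ext_pa, ap_ext_pb, ap_ext_emb, p.2.2]⟩
  have hprj : ∀ (a b : ZMod 2) (y : V6), prj (a • pa + b • pb + emb y) = y := fun a b y => by
    simp [map_add, map_smul, prj_pa, prj_pb, prj_emb]
  have hf : Function.Bijective f := by
    refine ⟨fun p q h => ?_, fun v => ?_⟩
    · obtain ⟨⟨a, b⟩, y, hy⟩ := p
      obtain ⟨⟨c, d⟩, w, hw⟩ := q
      have h' : a • pa + b • pb + emb y = c • pa + d • pb + emb w := congrArg Subtype.val h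
      obtain rfl : y = w := by rw [← hprj a b y, h', hprj]
      have e1 := congrArg (fun v => polar ⇑qm v pa) h'
      have e2 := congrArg (fun v => polar ⇑qm v pb) h'
      have eaa : polar ⇑qm pa pa = 0 := by rw [pl_self, show (2 : ZMod 2) = 0 from rfl, zero_mul]
      have ebb : polar ⇑qm pb pb = 0 := by rw [pl_self, show (2 : ZMod 2) = 0 from rfl, zero_mul]
      simp only [pl_add_left, pl_smul_left, eaa, ebb, emb_perp_pa, emb_perp_pb, polar_pab,
        pl_comm qm pb pa, mul_zero, mul_one, add_zero, zero_add] at e1 e2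
      rw [e1, e2]
    · obtain ⟨v, hv⟩ := v
      obtain ⟨a, b, h⟩ := exists_comp v
      refine ⟨((a, b), ⟨prj v, ?_⟩), Subtype.ext h.symm⟩
      have h1 := congrArg prj hv
      rwa [ap_ext, map_add, prj_emb, add_comm, add_assoc, ZModModule.add_self, add_zero] at h1
  rw [← Nat.card_congr (Equiv.ofBijective f hf), Nat.card_prod, Nat.card_prod, Nat.card_zmod]

/-- Coordinates for the two elements. -/
theorem exists_pair [Finite G] (z : G) (hz : orderOf z = 2)
    (Q : Subgroup (Subgroup.centralizer ({z} : Set G))) [Q.Normal]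
    (hF : Cfsg.generalizedFittingSubgroup (Subgroup.centralizer ({z} : Set G)) = Q)
    (hQ : Cfsg.IsExtraspecial 2 Q) (hcard : Nat.card Q = 2 ^ 9)
    (e : (Subgroup.centralizer ({z} : Set G)) ⧸ Q ≃* Cfsg.Omega (ZMod 2) (Cfsg.quadFormPlus 4 (ZMod 2)))
    (hnwc : ∃ g : G, (∃ hq : g * z * g⁻¹ ∈ Subgroup.centralizer ({z} : Set G),
      (⟨g * z * g⁻¹, hq⟩ : Subgroup.centralizer ({z} : Set G)) ∈ Q) ∧ g * z * g⁻¹ ≠ z)
    (X : Subgroup (Subgroup.centralizer ({z} : Set G))) (hX : Nat.card X = 3)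
    (hQX : Nat.card ↥⁅Q, X⁆ = 8)
    (Y : Subgroup (Subgroup.centralizer ({z} : Set G))) (hXY : X ≤ Y) (hY : Nat.card Y = 9)
    (hYe : ∀ y ∈ Y, y ^ 3 = 1)
    (hCQ : Nat.card ↥(Q ⊓ Subgroup.centralizer (Y : Set (Subgroup.centralizer ({z} : Set G)))) = 32) :
    ∃ S : Std G, X.map (Subgroup.centralizer ({z} : Set G)).subtype = Subgroup.zpowers S.x ∧
      ∃ y ∈ S.K, Thr S.T y ∧ ap (S.T.ρ y) pa = pa := by
  classical
  haveI : Fact (Nat.Prime 3) := ⟨Nat.prime_three⟩
  obtain ⟨T, rfl, hTQ⟩ := CoType.exists_co z hz Q hF hQ hcard e hnwc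
  have hQT : Q.map (Subgroup.centralizer ({T.z} : Set G)).subtype = T.Q := hTQ.symm
  obtain ⟨x0, hgen⟩ := (isCyclic_of_prime_card hX).exists_ofOrder_eq_natCard
  rw [hX, ← Subgroup.orderOf_coe] at hgen
  obtain ⟨x1, hx1X⟩ := x0
  have hX' : X = Subgroup.zpowers x1 := (Subgroup.eq_of_le_of_card_ge (Subgroup.zpowers_le.2 hx1X)
    (by rw [Nat.card_zpowers, hgen, hX])).symm
  have hXmap : X.map (Subgroup.centralizer ({T.z} : Set G)).subtype = Subgroup.zpowers (x1 : G) := by
    rw [hX', MonoidHom.map_zpowers]; rfl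
  have h8 : Nat.card ↥⁅T.Q, Subgroup.zpowers (x1 : G)⁆ = 8 := by
    rw [← hQT, ← hXmap, ← map_comm, Subgroup.card_map_of_injective (Subgroup.centralizer ({T.z} : Set G)).subtype_injective, hQX]
  have hthr : Thr T (x1 : G) := thr_of_card T (Subgroup.mem_centralizer_singleton_iff.1 x1.2)
    ((Subgroup.orderOf_coe x1).trans hgen) h8
  obtain ⟨S, hSx, hSz, hSQ, -, -, -⟩ := exists_std hthr
  -- a second element
  obtain ⟨y1, hy1, hy1X⟩ : ∃ y1 ∈ Y, y1 ∉ X := by
    by_contra! h
    have := Subgroup.card_le_of_le h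
    omega
  have hYc : ∀ a ∈ Y, ∀ b ∈ Y, a * b = b * a := by
    intro a ha b hb
    have hc := IsPGroup.commutative_of_card_eq_prime_sq (p := 3) (G := Y) (by rw [hY]; norm_num)
    exact congrArg Subtype.val (hc ⟨a, ha⟩ ⟨b, hb⟩)
  have hy1K : (y1 : G) ∈ S.K := S.mem_K.2
    ⟨by rw [hSz]; exact Subgroup.mem_centralizer_singleton_iff.1 y1.2,
      by rw [hSx]; exact congrArg Subtype.val (hYc _ hy1 _ (hXY hx1X))⟩
  obtain ⟨k, hk⟩ := exists_eq ⟨S.T.ρ (y1 : G), S.ρ_comm hy1K⟩
  set t := res₀ ⟨S.T.ρ (y1 : G), S.ρ_comm hy1K⟩ with ht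
  have hxK : ∀ n : ℕ, (S.x ^ n)⁻¹ ∈ S.K := fun n => inv_mem (pow_mem S.x_mem_K n)
  refine ⟨S, hXmap.trans (by rw [hSx]), (y1 : G) * (S.x ^ k)⁻¹, mul_mem hy1K (hxK k), ?_⟩
  have hρ : S.T.ρ ((y1 : G) * (S.x ^ k)⁻¹) = ext t := by
    rw [S.T.ρ_mul _ _ (S.mem_K.1 hy1K).1 (S.mem_K.1 (hxK k)).1,
      S.T.ρ_inv (Commute.pow_left S.hx.hz k).eq, S.ρ_pow_x, show S.T.ρ (y1 : G) = β ^ k * ext t from hk,
      ← (Commute.pow_right (ext_comm_β t : Commute (ext t) β) k).eq, mul_inv_cancel_right]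
  refine ⟨⟨(S.mem_K.1 (mul_mem hy1K (hxK k))).1, ?_, ?_⟩, by rw [hρ, ap_ext_pa]⟩
  · have h3 : (y1 : G) ^ 3 = 1 := congrArg Subtype.val (hYe y1 hy1)
    have hc : Commute (y1 : G) (S.x ^ k)⁻¹ :=
      ((show Commute (y1 : G) S.x from (S.mem_K.1 hy1K).2).pow_right k).inv_right
    rw [hc.mul_pow, h3, inv_pow, ← pow_mul, mul_comm, pow_mul, S.hx.cube, one_pow, inv_one, one_mul]
  · rw [hρ, card_count]
    suffices h16 : Nat.card {v : V6 // ap t v = v} = 16 by rw [h16]
    -- the fixed vectors of both elements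
    have hgenY : Subgroup.zpowers x1 ⊔ Subgroup.zpowers y1 = Y := by
      have hle : Subgroup.zpowers x1 ⊔ Subgroup.zpowers y1 ≤ Y :=
        sup_le (Subgroup.zpowers_le.2 (hXY hx1X)) (Subgroup.zpowers_le.2 hy1)
      refine Subgroup.eq_of_le_of_card_ge hle ?_
      have hd := Subgroup.card_dvd_of_le hle
      have hlt : 3 < Nat.card ↥(Subgroup.zpowers x1 ⊔ Subgroup.zpowers y1) := by
        rw [← hX]
        by_contra hn
        have := Subgroup.eq_of_le_of_card_ge (hX' ▸ le_sup_left : X ≤ Subgroup.zpowers x1 ⊔ Subgroup.zpowers y1)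
          (not_lt.1 hn)
        exact hy1X (this ▸ Subgroup.mem_sup_right (Subgroup.mem_zpowers y1))
      rw [hY] at hd ⊢
      obtain ⟨i, hi, he⟩ := (Nat.dvd_prime_pow Nat.prime_three).1 (show _ ∣ 3 ^ 2 by norm_num; exact hd)
      rw [he] at hlt ⊢
      interval_cases i <;> simp only [pow_zero, pow_one, show (3 : ℕ) ^ 2 = 9 from rfl] at hlt ⊢ <;> omega
    have hbij : Nat.card ↥(Q ⊓ Subgroup.centralizer (Y : Set (Subgroup.centralizer ({T.z} : Set G)))) =
        2 * Nat.card {v : V8 // ap β v = v ∧ ap (S.T.ρ (y1 : G)) v = v} := by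
      rw [← CoFive.card_over S.T, ← Subgroup.card_map_of_injective (Subgroup.centralizer ({T.z} : Set G)).subtype_injective]
      refine Nat.card_congr (Equiv.subtypeEquivRight fun q => ?_)
      rw [hSQ, ← hQT]
      constructor
      · rintro ⟨c, ⟨hcQ, hcY⟩, rfl⟩
        have hqQ : (c : G) ∈ S.T.Q := by rw [hSQ, ← hQT]; exact ⟨c, hcQ, rfl⟩
        refine ⟨⟨c, hcQ, rfl⟩, ?_, ?_⟩
        · rw [← S.hρ]
          refine (comm_iff_fix S.hx.hz S.hx.cube hqQ).1 ?_
          rw [hSx]; exact congrArg Subtype.val (Subgroup.mem_centralizer_iff.1 hcY _ (hXY hx1X))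
        · refine (comm_iff_fix (S.mem_K.1 hy1K).1 (congrArg Subtype.val (hYe y1 hy1)) hqQ).1 ?_
          exact congrArg Subtype.val (Subgroup.mem_centralizer_iff.1 hcY _ hy1)
      · rintro ⟨⟨c, hcQ, rfl⟩, hb, hy⟩
        have hqQ : (c : G) ∈ S.T.Q := by rw [hSQ, ← hQT]; exact ⟨c, hcQ, rfl⟩
        refine ⟨c, ⟨hcQ, ?_⟩, rfl⟩
        rw [← S.hρ] at hb
        have h1 : (x1 : G) * c = c * x1 := hSx ▸ (comm_iff_fix S.hx.hz S.hx.cube hqQ).2 hb
        have h2 := (comm_iff_fix (S.mem_K.1 hy1K).1 (congrArg Subtype.val (hYe y1 hy1)) hqQ).2 hy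
        rw [← hgenY, Subgroup.zpowers_eq_closure, Subgroup.zpowers_eq_closure, ← Subgroup.closure_union,
          Subgroup.centralizer_closure]
        refine Subgroup.mem_centralizer_iff.2 ?_
        rintro w (hw | hw) <;> obtain rfl := hw
        · exact Subtype.ext h1
        · exact Subtype.ext h2
    have hfix : Nat.card {v : V8 // ap β v = v ∧ ap (S.T.ρ (y1 : G)) v = v} =
        Nat.card {v : V6 // ap t v = v} := by
      have hρy : S.T.ρ (y1 : G) = β ^ k * ext t := hk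
      have hpow : ∀ v, ap β v = v → ap (β ^ k) v = v := fun v h => by
        clear hρ hρy hk hxK
        induction k with
        | zero => rw [pow_zero, ap_one]
        | succ n ih => rw [pow_succ, ap_mul, h, ih]
      refine Nat.card_congr
        { toFun := fun v => ⟨prj v.1, ?_⟩
          invFun := fun y => ⟨emb y.1, β_emb _, by
            rw [hρy, ap_mul, ap_ext_emb, y.2, hpow _ (β_emb _)]⟩
          left_inv := fun v => Subtype.ext (emb_prj_of_fix v.2.1)
          right_inv := fun y => Subtype.ext (prj_emb _) }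
      obtain ⟨w, hw, h⟩ := v
      rw [hρy, ap_mul] at h
      rw [← emb_prj_of_fix hw, ap_ext_emb, hpow _ (β_emb _)] at h
      have h' := congrArg prj h
      rwa [prj_emb, prj_emb] at h'
    rw [hCQ, hfix] at hbij
    omega

end Cfsg.Agent.CoThree
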