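/-
The centraliser of the element of order three in a group of Conway type, given the recognition of the
group of Suzuki type and the perfectness of its element centraliser (helper18).

* `SuzInput`, `main` : the inputs and the result
* `perfectInput_of` : the second input from quasisimplicity
-/
import Cfsg.Agent.Lib.CoThree.Final
import Cfsg.Agent.Lib.Components.Quasisimple

set_option autoImplicit false
open scoped commutatorElement

namespace Cfsg.Agent.CoThree

open Cfsg.Agent.CoType Cfsg.Agent.Orth Cfsg.Agent.LargeExtraspecial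
open QuadraticMap (polar)

universe u

variable {G : Type u} [Group G]

/-- The recognition of the group of Suzuki type. -/
def SuzInput (H : Type u) [Group H] : Prop :=
  ∀ (z : H), orderOf z = 2 → ∀ (Q : Subgroup (Subgroup.centralizer ({z} : Set H))) [Q.Normal],
    Cfsg.generalizedFittingSubgroup (Subgroup.centralizer ({z} : Set H)) = Q →
    Cfsg.IsExtraspecial 2 Q → Nat.card Q = 2 ^ 7 →
    Nonempty ((Subgroup.centralizer ({z} : Set H)) ⧸ Q ≃*
      Cfsg.Omega (ZMod 2) (Cfsg.quadFormMinus 2 (ZMod 2) 1 1)) →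
    (∃ g : H, (∃ hq : g * z * g⁻¹ ∈ Subgroup.centralizer ({z} : Set H),
      (⟨g * z * g⁻¹, hq⟩ : Subgroup.centralizer ({z} : Set H)) ∈ Q) ∧ g * z * g⁻¹ ≠ z) →
    Cfsg.Spor.IsoSuz H

theorem isSimpleGroup_and_noncomm {H : Type u} [Group H] (hS : IsSimpleGroup Cfsg.Spor.Suz)
    (hc : Nat.card Cfsg.Spor.Suz = 448345497600) (h : Cfsg.Spor.IsoSuz H) :
    IsSimpleGroup H ∧ ¬ IsMulCommutative H := by
  obtain ⟨e⟩ := h
  haveI : IsSimpleGroup H := e.isSimpleGroup
  refine ⟨inferInstance, fun hcomm => ?_⟩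
  letI : CommGroup H := { (inferInstance : Group H) with mul_comm := hcomm.1.1 }
  haveI : Finite H := Nat.finite_of_card_ne_zero (by rw [Nat.card_congr e.toEquiv, hc]; norm_num)
  have hp : (Nat.card H).Prime := IsSimpleGroup.prime_card
  rw [Nat.card_congr e.toEquiv, hc] at hp
  norm_num at hp

theorem main [Finite G] (hS : IsSimpleGroup Cfsg.Spor.Suz)
    (hc : Nat.card Cfsg.Spor.Suz = 448345497600)
    (hSuz : ∀ (H : Type u) [Group H] [Finite H], SuzInput H)
    (hU : ∀ (H : Type u) [Group H] [Finite H], PerfectInput H)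
    (z : G) (hz : orderOf z = 2) (Q : Subgroup (Subgroup.centralizer ({z} : Set G))) [Q.Normal]
    (hF : Cfsg.generalizedFittingSubgroup (Subgroup.centralizer ({z} : Set G)) = Q)
    (hQ : Cfsg.IsExtraspecial 2 Q) (hcard : Nat.card Q = 2 ^ 9)
    (e : (Subgroup.centralizer ({z} : Set G)) ⧸ Q ≃* Cfsg.Omega (ZMod 2) (Cfsg.quadFormPlus 4 (ZMod 2)))
    (hnwc : ∃ g : G, (∃ hq : g * z * g⁻¹ ∈ Subgroup.centralizer ({z} : Set G),
      (⟨g * z * g⁻¹, hq⟩ : Subgroup.centralizer ({z} : Set G)) ∈ Q) ∧ g * z * g⁻¹ ≠ z)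
    (X : Subgroup (Subgroup.centralizer ({z} : Set G))) (hX : Nat.card X = 3)
    (hQX : Nat.card ↥⁅Q, X⁆ = 8)
    (Y : Subgroup (Subgroup.centralizer ({z} : Set G))) (hXY : X ≤ Y) (hY : Nat.card Y = 9)
    (hYe : ∀ y ∈ Y, y ^ 3 = 1)
    (hCQ : Nat.card ↥(Q ⊓ Subgroup.centralizer (Y : Set (Subgroup.centralizer ({z} : Set G)))) = 32)
    [((X.map (Subgroup.subtype (Subgroup.centralizer ({z} : Set G)))).subgroupOf
      (Subgroup.centralizer ((X.map (Subgroup.subtype (Subgroup.centralizer ({z} : Set G)))) : Set G))).Normal] :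
    Cfsg.IsQuasisimple ↥(Subgroup.centralizer
      ((X.map (Subgroup.subtype (Subgroup.centralizer ({z} : Set G)))) : Set G)) ∧
    Cfsg.Spor.IsoSuz (↥(Subgroup.centralizer ((X.map (Subgroup.subtype (Subgroup.centralizer ({z} : Set G)))) : Set G)) ⧸
      (X.map (Subgroup.subtype (Subgroup.centralizer ({z} : Set G)))).subgroupOf
        (Subgroup.centralizer ((X.map (Subgroup.subtype (Subgroup.centralizer ({z} : Set G)))) : Set G))) := by
  obtain ⟨S, hSX, y, hyK, hT, hfix⟩ := exists_pair z hz Q hF hQ hcard e hnwc X hX hQX Y hXY hY hYe hCQ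
  have hiso : Cfsg.Spor.IsoSuz S.Quot := by
    haveI := S.sect.R'_normal
    exact hSuz _ S.sect.zb S.sect.orderOf_zb S.sect.R' S.sect.genFitting S.sect.R'_extraspecial
      S.sect.card_R' (S.sect.quot_iso inferInstance) S.sect.not_weakly_closed
  obtain ⟨hs, hna⟩ := isSimpleGroup_and_noncomm hS hc hiso
  have hq := quasisimple S hU hs hna hyK hT hfix
  have hC : Subgroup.centralizer ((X.map (Subgroup.subtype (Subgroup.centralizer ({z} : Set G)))) : Set G) = S.C := by
    rw [hSX, Subgroup.zpowers_eq_closure, Subgroup.centralizer_closure]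
  refine ⟨(Components.isQuasisimple_congr (MulEquiv.subgroupCongr hC)).2 hq, ?_⟩
  obtain ⟨f⟩ := hiso
  refine ⟨(QuotientGroup.congr _ _ (MulEquiv.subgroupCongr hC) ?_).trans f⟩
  refine le_antisymm ?_ fun w hw => ⟨(MulEquiv.subgroupCongr hC).symm w, ?_, ?_⟩
  · rintro _ ⟨w, hw, rfl⟩
    exact Subgroup.mem_subgroupOf.2 (hSX ▸ Subgroup.mem_subgroupOf.1 hw)
  · refine Subgroup.mem_subgroupOf.2 ?_
    exact hSX.ge (Subgroup.mem_subgroupOf.1 hw)
  · exact (MulEquiv.subgroupCongr hC).apply_symm_apply w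

/-- The second input from quasisimplicity of the centraliser of the subgroup of order three. -/
theorem perfectInput_of {H : Type u} [Group H] [Finite H]
    (h : ∀ (z : H), orderOf z = 2 → ∀ (Q : Subgroup (Subgroup.centralizer ({z} : Set H))) [Q.Normal],
      Cfsg.generalizedFittingSubgroup (Subgroup.centralizer ({z} : Set H)) = Q →
      Cfsg.IsExtraspecial 2 Q → Nat.card Q = 2 ^ 7 →
      ((Subgroup.centralizer ({z} : Set H)) ⧸ Q ≃* Cfsg.Omega (ZMod 2) (Cfsg.quadFormMinus 2 (ZMod 2) 1 1)) →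
      (∃ g : H, (∃ hq : g * z * g⁻¹ ∈ Subgroup.centralizer ({z} : Set H),
        (⟨g * z * g⁻¹, hq⟩ : Subgroup.centralizer ({z} : Set H)) ∈ Q) ∧ g * z * g⁻¹ ≠ z) →
      ∀ (Y : Subgroup (Subgroup.centralizer ({z} : Set H))), Nat.card Y = 3 → Nat.card ↥⁅Q, Y⁆ = 8 →
        ¬ IsMulCommutative ↥⁅Q, Y⁆ →
        ((Y.map (Subgroup.subtype (Subgroup.centralizer ({z} : Set H)))).subgroupOf
          (Subgroup.centralizer ((Y.map (Subgroup.subtype (Subgroup.centralizer ({z} : Set H)))) : Set H))).Normal →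
        Group.IsPerfect ↥(Subgroup.centralizer
          ((Y.map (Subgroup.subtype (Subgroup.centralizer ({z} : Set H)))) : Set H))) :
    PerfectInput H := by
  intro z hz Q _ hF hQ hcard ⟨e⟩ hn y hy h8 hna
  set A := (Subgroup.zpowers y).map (Subgroup.subtype (Subgroup.centralizer ({z} : Set H))) with hA
  have hAc : Subgroup.centralizer (A : Set H) = Subgroup.centralizer ({(y : H)} : Set H) := by
    rw [hA, MonoidHom.map_zpowers, Subgroup.zpowers_eq_closure, Subgroup.centralizer_closure]; rfl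
  have hnorm : (A.subgroupOf (Subgroup.centralizer (A : Set H))).Normal := ⟨fun w hw c => by
    rw [Subgroup.mem_subgroupOf] at hw ⊢
    show (c : H) * w * (c : H)⁻¹ ∈ A
    rwa [← Subgroup.mem_centralizer_iff.1 c.2 _ hw, mul_inv_cancel_right]⟩
  obtain ⟨hperf⟩ := h z hz Q hF hQ hcard e hn (Subgroup.zpowers y) (by rw [Nat.card_zpowers, hy]) h8 hna hnorm
  rw [← hAc, ← Subgroup.map_subtype_commutator]
  rw [commutator_def] at hperf ⊢
  rw [hperf, ← MonoidHom.range_eq_map, Subgroup.range_subtype]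

end Cfsg.Agent.CoThree
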